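import Cfsg.Agent.Lib.SRGSearch.T11
import Mathlib

/-!
# The triangular graph T(11)

A strongly regular graph with parameters `(55, 18, 9, 4)` is the graph of the duads of an
11-set, and a group acting on the graph acts on the 11-set.
-/

set_option autoImplicit false
set_option linter.unusedSectionVars false

namespace Cfsg.Agent.Lib.M11U.Duads

open Cfsg.Agent.Lib.SRGSearch.Core Cfsg.Agent.Lib.SRGSearch.T11
open Cfsg.Agent.Lib.SteinerSearch.Core (mset mem_mset)

/-- First points. -/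
def paL : List ℕ := [0,2,0,1,2,1,0,1,0,3,2,1,0,3,4,2,1,0,3,4,5,2,1,0,3,4,5,6,2,1,0,3,4,5,6,7,9,2,1,0,2,3,4,5,6,7,8,1,0,4,3,6,5,8,7]

/-- Second points. -/
def pbL : List ℕ := [1,3,2,3,4,4,3,2,4,4,5,5,5,5,5,6,6,6,6,6,6,7,7,7,7,7,7,7,8,8,8,8,8,8,8,8,10,9,10,9,10,9,10,9,10,9,10,9,10,9,10,9,10,9,10]

/-- The duad of a vertex of the standard graph. -/
def psi (u : Fin 55) : Finset (Fin 11) :=
  {⟨nthK paL u.val % 11, Nat.mod_lt _ (by norm_num)⟩, ⟨nthK pbL u.val % 11, Nat.mod_lt _ (by norm_num)⟩}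

theorem psi_card : ∀ u, (psi u).card = 2 := by decide +kernel

theorem psi_inj : ∀ u v, psi u = psi v → u = v := by decide +kernel

theorem psi_std : ∀ u v : Fin 55, (nthK std u.val).testBit v.val = true ↔
    (u ≠ v ∧ (psi u ∩ psi v).Nonempty) := by decide +kernel

theorem psi_star : ∀ a, (Finset.univ.filter fun u => a ∈ psi u).card = 10 := by decide +kernel

theorem psi_surj : ∀ a b : Fin 11, a ≠ b → ∃ u, psi u = {a, b} := by decide +kernel

/-! ## Labels -/

/-- Labelling of the vertices by the duads of an 11-set. -/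
structure Label {X : Type*} [Fintype X] (Adj : X → X → Prop) (dd : X → Finset (Fin 11)) : Prop where
  card : ∀ Q, (dd Q).card = 2
  inj : Function.Injective dd
  adj : ∀ Q Q', Adj Q Q' ↔ (Q ≠ Q' ∧ (dd Q ∩ dd Q').Nonempty)
  star : ∀ a, (Finset.univ.filter fun Q => a ∈ dd Q).card = 10
  surj : ∀ a b : Fin 11, a ≠ b → ∃ Q, dd Q = {a, b}

/-- Strongly regular graphs with these parameters are labelled. -/
theorem exists_label {X : Type*} [Fintype X] [DecidableEq X] (hX : Fintype.card X = 55)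
    (Adj : X → X → Prop) [DecidableRel Adj] (hirr : ∀ u, ¬ Adj u u)
    (hsymm : ∀ u v, Adj u v → Adj v u)
    (hdeg : ∀ u, (Finset.univ.filter fun v => Adj u v).card = 18)
    (hla : ∀ u v, Adj u v → (Finset.univ.filter fun w => Adj u w ∧ Adj v w).card = 9)
    (hmu : ∀ u v, u ≠ v → ¬ Adj u v → (Finset.univ.filter fun w => Adj u w ∧ Adj v w).card = 4) :
    ∃ dd, Label Adj dd := by
  classical
  let e : X ≃ Fin 55 := Fintype.equivFinOfCardEq hX
  let N : Fin 55 → Finset (Fin 55) := fun u => Finset.univ.filter fun v => Adj (e.symm u) (e.symm v)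
  have hmem : ∀ u v, v ∈ N u ↔ Adj (e.symm u) (e.symm v) := by
    intro u v
    simp [N]
  have hN : IsSRG 55 18 9 4 N := by
    constructor
    · intro u v h
      rw [hmem] at h ⊢
      exact hsymm _ _ h
    · intro u h
      rw [hmem] at h
      exact hirr _ h
    · intro u
      rw [← hdeg (e.symm u)]
      apply Finset.card_equiv e.symm
      intro i
      simp [hmem]
    · intro u v huv
      have hne : e.symm u ≠ e.symm v := fun h => huv (e.symm.injective h)
      have hc : (N u ∩ N v).card =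
          (Finset.univ.filter fun w => Adj (e.symm u) w ∧ Adj (e.symm v) w).card := by
        apply Finset.card_equiv e.symm
        intro i
        simp [hmem]
      rw [hc]
      by_cases h : Adj (e.symm u) (e.symm v)
      · rw [if_pos ((hmem u v).2 h)]
        exact hla _ _ h
      · rw [if_neg (fun h' => h ((hmem u v).1 h'))]
        exact hmu _ _ hne h
  obtain ⟨σ, hσ⟩ := exists_perm hN
  let ι : X → Fin 55 := fun Q => σ (e Q)
  have hιinj : Function.Injective ι := fun a b h => e.injective (σ.injective h)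
  have hιsurj : Function.Surjective ι := fun u => ⟨e.symm (σ.symm u), by simp [ι]⟩
  have hadj : ∀ Q Q', Adj Q Q' ↔ (ι Q' ∈ stdN 55 std (ι Q)) := by
    intro Q Q'
    rw [← hσ]
    show Adj Q Q' ↔ σ (e Q') ∈ (N (σ.symm (σ (e Q)))).image σ
    rw [Equiv.symm_apply_apply, σ.injective.mem_finset_image, hmem]
    simp
  refine ⟨fun Q => psi (ι Q), ?_⟩
  constructor
  · exact fun Q => psi_card _
  · intro a b h
    exact hιinj (psi_inj _ _ h)
  · intro Q Q'
    rw [hadj]
    have h1 := psi_std (ι Q) (ι Q')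
    rw [stdN, mem_mset, h1]
    constructor
    · rintro ⟨h2, h3⟩
      exact ⟨fun h4 => h2 (congrArg ι h4), h3⟩
    · rintro ⟨h2, h3⟩
      exact ⟨fun h4 => h2 (hιinj h4), h3⟩
  · intro a
    rw [← psi_star a]
    apply Finset.card_equiv (e.trans σ)
    intro i
    simp [ι]
  · intro a b hab
    obtain ⟨u, hu⟩ := psi_surj a b hab
    obtain ⟨Q, rfl⟩ := hιsurj u
    exact ⟨Q, hu⟩

/-! ## Cliques -/

theorem exists_pair {d : Finset (Fin 11)} (hd : d.card = 2) {b : Fin 11} (hb : b ∈ d) :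
    ∃ c, c ≠ b ∧ d = {b, c} := by
  obtain ⟨x, y, hxy, rfl⟩ := Finset.card_eq_two.1 hd
  simp only [Finset.mem_insert, Finset.mem_singleton] at hb
  rcases hb with rfl | rfl
  · exact ⟨y, hxy.symm, rfl⟩
  · exact ⟨x, hxy, Finset.pair_comm _ _⟩

/-- Four pairwise meeting distinct duads have a common point. -/
theorem clique4 {d₁ d₂ d₃ d₄ : Finset (Fin 11)} (h₁ : d₁.card = 2) (h₂ : d₂.card = 2)
    (h₃ : d₃.card = 2) (h₄ : d₄.card = 2) (n12 : d₁ ≠ d₂) (n13 : d₁ ≠ d₃) (n14 : d₁ ≠ d₄)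
    (n23 : d₂ ≠ d₃) (n24 : d₂ ≠ d₄) (n34 : d₃ ≠ d₄) (i12 : (d₁ ∩ d₂).Nonempty)
    (i13 : (d₁ ∩ d₃).Nonempty) (i14 : (d₁ ∩ d₄).Nonempty) (i23 : (d₂ ∩ d₃).Nonempty)
    (i24 : (d₂ ∩ d₄).Nonempty) (i34 : (d₃ ∩ d₄).Nonempty) :
    ∃ b, b ∈ d₁ ∧ b ∈ d₂ ∧ b ∈ d₃ ∧ b ∈ d₄ := by
  obtain ⟨b, hb⟩ := i12
  rw [Finset.mem_inter] at hb
  obtain ⟨c, hcb, rfl⟩ := exists_pair h₁ hb.1
  obtain ⟨f, hfb, rfl⟩ := exists_pair h₂ hb.2
  have hcf : c ≠ f := fun h => n12 (by rw [h])
  have key : ∀ d : Finset (Fin 11), d.card = 2 → (({b, c} : Finset (Fin 11)) ∩ d).Nonempty →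
      (({b, f} : Finset (Fin 11)) ∩ d).Nonempty → b ∉ d → d = {c, f} := by
    intro d hd i1 i2 hbd
    obtain ⟨x, hx⟩ := i1
    obtain ⟨y, hy⟩ := i2
    simp only [Finset.mem_inter, Finset.mem_insert, Finset.mem_singleton] at hx hy
    have hc : c ∈ d := by
      rcases hx.1 with h | h
      · exact absurd (h ▸ hx.2) hbd
      · exact h ▸ hx.2
    have hf : f ∈ d := by
      rcases hy.1 with h | h
      · exact absurd (h ▸ hy.2) hbd
      · exact h ▸ hy.2
    symm
    apply Finset.eq_of_subset_of_card_le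
    · intro z hz
      simp only [Finset.mem_insert, Finset.mem_singleton] at hz
      rcases hz with rfl | rfl <;> assumption
    · rw [hd, Finset.card_pair hcf]
  have key2 : ∀ d : Finset (Fin 11), d.card = 2 → d ≠ {b, c} → d ≠ {b, f} → b ∈ d →
      (({c, f} : Finset (Fin 11)) ∩ d).Nonempty → False := by
    intro d hd n1 n2 hbd i
    obtain ⟨g, hgb, rfl⟩ := exists_pair hd hbd
    obtain ⟨x, hx⟩ := i
    simp only [Finset.mem_inter, Finset.mem_insert, Finset.mem_singleton] at hx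
    rcases hx.2 with rfl | rfl
    · rcases hx.1 with h | h
      · exact hcb h.symm
      · exact hfb h.symm
    · rcases hx.1 with rfl | rfl
      · exact n1 rfl
      · exact n2 rfl
  have hbmem : b ∈ ({b, c} : Finset (Fin 11)) := by simp
  have hbmem' : b ∈ ({b, f} : Finset (Fin 11)) := by simp
  by_cases h3 : b ∈ d₃
  · by_cases h4 : b ∈ d₄
    · exact ⟨b, hbmem, hbmem', h3, h4⟩
    · have h5 := key d₄ h₄ i14 i24 h4
      exact (key2 d₃ h₃ n13.symm n23.symm h3 (by rw [← h5, Finset.inter_comm]; exact i34)).elim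
  · have h5 := key d₃ h₃ i13 i23 h3
    by_cases h4 : b ∈ d₄
    · exact (key2 d₄ h₄ n14.symm n24.symm h4 (by rw [← h5]; exact i34)).elim
    · exact absurd (h5.trans (key d₄ h₄ i14 i24 h4).symm) n34

/-! ## The action on the 11-set -/

section Action

variable {X : Type*} [Fintype X] [DecidableEq X] {Adj : X → X → Prop} {dd : X → Finset (Fin 11)}

/-- The image of a star has a common point. -/
theorem exists_image_point (hL : Label Adj dd) (φ : X → X) (hφ : Function.Injective φ)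
    (hadj : ∀ a b, Adj a b → Adj (φ a) (φ b)) (a : Fin 11) :
    ∃ b, ∀ Q, a ∈ dd Q → b ∈ dd (φ Q) := by
  classical
  set S := Finset.univ.filter fun Q => a ∈ dd Q with hS
  have hScard : S.card = 10 := hL.star a
  have hmemS : ∀ Q, Q ∈ S ↔ a ∈ dd Q := by simp [hS]
  have hadjS : ∀ Q Q', a ∈ dd Q → a ∈ dd Q' → Q ≠ Q' →
      (dd (φ Q) ∩ dd (φ Q')).Nonempty := by
    intro Q Q' h1 h2 h3
    have h4 : Adj Q Q' := (hL.adj _ _).2 ⟨h3, ⟨a, Finset.mem_inter.2 ⟨h1, h2⟩⟩⟩
    exact ((hL.adj _ _).1 (hadj _ _ h4)).2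
  have hddne : ∀ {Q Q'}, Q ≠ Q' → dd (φ Q) ≠ dd (φ Q') := by
    intro Q Q' h1 h2
    exact h1 (hφ (hL.inj h2))
  obtain ⟨Q₁, h₁, Q₂, h₂, h12⟩ := Finset.one_lt_card.1 (by rw [hScard]; norm_num : 1 < S.card)
  rw [hmemS] at h₁ h₂
  obtain ⟨b, hb⟩ := hadjS Q₁ Q₂ h₁ h₂ h12
  rw [Finset.mem_inter] at hb
  refine ⟨b, fun Q hQ => ?_⟩
  by_cases h3 : Q = Q₁
  · rw [h3]
    exact hb.1
  by_cases h4 : Q = Q₂
  · rw [h4]
    exact hb.2
  obtain ⟨Q₄, hQ₄, hQ₄'⟩ := Finset.exists_mem_notMem_of_card_lt_card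
    (s := ({Q₁, Q₂, Q} : Finset X)) (t := S) (by
      rw [hScard]
      exact lt_of_le_of_lt (Finset.card_le_three) (by norm_num))
  simp only [Finset.mem_insert, Finset.mem_singleton, not_or] at hQ₄'
  rw [hmemS] at hQ₄
  obtain ⟨b', h5, h6, h7, h8⟩ := clique4 (hL.card (φ Q₁)) (hL.card (φ Q₂)) (hL.card (φ Q))
    (hL.card (φ Q₄)) (hddne h12) (hddne (Ne.symm h3)) (hddne (Ne.symm hQ₄'.1))
    (hddne (Ne.symm h4)) (hddne (Ne.symm hQ₄'.2.1)) (hddne (Ne.symm hQ₄'.2.2))
    (hadjS _ _ h₁ h₂ h12) (hadjS _ _ h₁ hQ (Ne.symm h3)) (hadjS _ _ h₁ hQ₄ (Ne.symm hQ₄'.1))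
    (hadjS _ _ h₂ hQ (Ne.symm h4)) (hadjS _ _ h₂ hQ₄ (Ne.symm hQ₄'.2.1))
    (hadjS _ _ hQ hQ₄ (Ne.symm hQ₄'.2.2))
  by_cases h9 : b = b'
  · rw [h9]
    exact h7
  · exfalso
    obtain ⟨c, hc, hc'⟩ := exists_pair (hL.card (φ Q₁)) hb.1
    obtain ⟨c₂, hc₂, hc₂'⟩ := exists_pair (hL.card (φ Q₂)) hb.2
    rw [hc'] at h5
    rw [hc₂'] at h6
    simp only [Finset.mem_insert, Finset.mem_singleton] at h5 h6
    have h10 : c = b' := by
      rcases h5 with h | h
      · exact absurd h.symm h9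
      · exact h.symm
    have h11 : c₂ = b' := by
      rcases h6 with h | h
      · exact absurd h.symm h9
      · exact h.symm
    exact hddne h12 (by rw [hc', hc₂', h10, h11])

/-- The point is unique. -/
theorem image_point_unique (hL : Label Adj dd) (φ : X → X) (hφ : Function.Injective φ)
    (a b b' : Fin 11) (h : ∀ Q, a ∈ dd Q → b ∈ dd (φ Q)) (h' : ∀ Q, a ∈ dd Q → b' ∈ dd (φ Q)) :
    b = b' := by
  classical
  by_contra hne
  have hS : (Finset.univ.filter fun Q => a ∈ dd Q).card = 10 := hL.star a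
  obtain ⟨Q₁, h₁, Q₂, h₂, h12⟩ := Finset.one_lt_card.1
    (by rw [hS]; norm_num : 1 < (Finset.univ.filter fun Q => a ∈ dd Q).card)
  simp only [Finset.mem_filter, Finset.mem_univ, true_and] at h₁ h₂
  have key : ∀ Q, a ∈ dd Q → dd (φ Q) = {b, b'} := by
    intro Q hQ
    symm
    apply Finset.eq_of_subset_of_card_le
    · intro z hz
      simp only [Finset.mem_insert, Finset.mem_singleton] at hz
      rcases hz with rfl | rfl
      · exact h Q hQ
      · exact h' Q hQ
    · rw [hL.card, Finset.card_pair hne]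
  exact h12 (hφ (hL.inj ((key _ h₁).trans (key _ h₂).symm)))

variable {G : Type*} [Group G] [MulAction G X]

/-- The induced action on the 11-set. -/
theorem exists_hom (hL : Label Adj dd) (hinv : ∀ (g : G) a b, Adj a b → Adj (g • a) (g • b)) :
    ∃ π : G →* Equiv.Perm (Fin 11), ∀ (g : G) (Q : X) (a : Fin 11),
      a ∈ dd Q ↔ π g a ∈ dd (g • Q) := by
  classical
  have hex := fun (g : G) (a : Fin 11) =>
    exists_image_point hL (fun Q => g • Q) (MulAction.injective g) (hinv g) a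
  choose f hf using hex
  have huniq := fun (g : G) (a b b' : Fin 11) =>
    image_point_unique hL (fun Q : X => g • Q) (MulAction.injective g) a b b'
  have hmul : ∀ g h a, f (g * h) a = f g (f h a) := by
    intro g h a
    apply huniq (g * h) a
    · exact hf (g * h) a
    · intro Q hQ
      show f g (f h a) ∈ dd ((g * h) • Q)
      rw [mul_smul]
      exact hf g _ _ (hf h a Q hQ)
  have hone : ∀ a, f 1 a = a := by
    intro a
    apply huniq 1 a
    · exact hf 1 a
    · intro Q hQ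
      simpa using hQ
  let π : G →* Equiv.Perm (Fin 11) :=
    { toFun := fun g => ⟨f g, f g⁻¹, fun a => by rw [← hmul, inv_mul_cancel, hone],
        fun a => by rw [← hmul, mul_inv_cancel, hone]⟩
      map_one' := by
        ext a
        simp [hone]
      map_mul' := by
        intro g h
        ext a
        simp [hmul] }
  refine ⟨π, fun g Q a => ⟨fun h => hf g a Q h, fun h => ?_⟩⟩
  have h1 := hf g⁻¹ _ _ h
  have h2 : f g⁻¹ (π g a) = a := by
    show f g⁻¹ (f g a) = a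
    rw [← hmul, inv_mul_cancel, hone]
  rw [h2] at h1
  simpa using h1

end Action

end Cfsg.Agent.Lib.M11U.Duads
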