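import Mathlib

/-!
# Normal form for sharply 4-transitive groups of degree 11 and order 7920

Any simple group `H ≤ Sym(11)` of order 7920 whose non-trivial elements have at most three fixed
points is conjugate to one concrete group `K`, the closure of three explicit permutations.
-/

set_option autoImplicit false

namespace Cfsg.Agent.Lib.M11U.NFSearch

/-- The symmetric group of degree 11. -/
abbrev P11 := Equiv.Perm (Fin 11)

/-! ## Computation with lists of values -/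

/-- `i`-th entry. -/
def ap (l : List ℕ) : ℕ → ℕ :=
  List.rec (fun _ => 0) (fun a _ ih i => Nat.rec a (fun m _ => ih m) i) l

/-- Composition. -/
def mulL (a b : List ℕ) : List ℕ := List.rec [] (fun c _ ih => ap a c :: ih) b

/-- Number of positions where two lists agree, plus `acc`. -/
def agreeAux (a : List ℕ) : List ℕ → ℕ → ℕ :=
  List.rec (fun _ acc => acc)
    (fun c _ ih b acc => List.rec acc
      (fun d t _ => ih t (cond (Nat.beq c d) (Nat.succ acc) acc)) b) a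

/-- Lists agree on at most three positions, or everywhere. -/
def okA (a b : List ℕ) : Bool :=
  let f := agreeAux a b 0
  cond (Nat.ble f 3) true (Nat.beq f 11)

/-- The identity. -/
def idL : List ℕ := [0, 1, 2, 3, 4, 5, 6, 7, 8, 9, 10]

/-- Powers of `w` times `u` are all good. -/
def loopP (w : List ℕ) (n : ℕ) : List ℕ → Bool :=
  Nat.rec (fun _ => true) (fun _ ih u => cond (okA u idL) (ih (mulL w u)) false) n

/-- Boolean universal quantifier on lists. -/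
def allK {α : Type} (p : α → Bool) (l : List α) : Bool :=
  List.rec true (fun a _ ih => cond (p a) ih false) l

theorem allK_iff {α : Type} (p : α → Bool) (l : List α) :
    allK p l = true ↔ ∀ a ∈ l, p a = true := by
  induction l with
  | nil => simp [allK]
  | cons a l ih =>
    show cond (p a) (allK p l) false = true ↔ _
    cases h : p a <;> simp [h, ih]

def hT : List (List ℕ) := [[0,1,2,3,4,5,6,7,8,9,10],
  [0,3,6,9,1,4,7,10,2,5,8],
  [0,9,7,5,3,1,10,8,6,4,2],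
  [0,5,10,4,9,3,8,2,7,1,6],
  [0,4,8,1,5,9,2,6,10,3,7],
  [1,2,3,4,5,6,7,8,9,10,0],
  [1,4,7,10,2,5,8,0,3,6,9],
  [1,10,8,6,4,2,0,9,7,5,3],
  [1,6,0,5,10,4,9,3,8,2,7],
  [1,5,9,2,6,10,3,7,0,4,8],
  [2,3,4,5,6,7,8,9,10,0,1],
  [2,5,8,0,3,6,9,1,4,7,10],
  [2,0,9,7,5,3,1,10,8,6,4],
  [2,7,1,6,0,5,10,4,9,3,8],
  [2,6,10,3,7,0,4,8,1,5,9],
  [3,4,5,6,7,8,9,10,0,1,2],
  [3,6,9,1,4,7,10,2,5,8,0],
  [3,1,10,8,6,4,2,0,9,7,5],
  [3,8,2,7,1,6,0,5,10,4,9],
  [3,7,0,4,8,1,5,9,2,6,10],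
  [4,5,6,7,8,9,10,0,1,2,3],
  [4,7,10,2,5,8,0,3,6,9,1],
  [4,2,0,9,7,5,3,1,10,8,6],
  [4,9,3,8,2,7,1,6,0,5,10],
  [4,8,1,5,9,2,6,10,3,7,0],
  [5,6,7,8,9,10,0,1,2,3,4],
  [5,8,0,3,6,9,1,4,7,10,2],
  [5,3,1,10,8,6,4,2,0,9,7],
  [5,10,4,9,3,8,2,7,1,6,0],
  [5,9,2,6,10,3,7,0,4,8,1],
  [6,7,8,9,10,0,1,2,3,4,5],
  [6,9,1,4,7,10,2,5,8,0,3],
  [6,4,2,0,9,7,5,3,1,10,8],
  [6,0,5,10,4,9,3,8,2,7,1],
  [6,10,3,7,0,4,8,1,5,9,2],
  [7,8,9,10,0,1,2,3,4,5,6],
  [7,10,2,5,8,0,3,6,9,1,4],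
  [7,5,3,1,10,8,6,4,2,0,9],
  [7,1,6,0,5,10,4,9,3,8,2],
  [7,0,4,8,1,5,9,2,6,10,3],
  [8,9,10,0,1,2,3,4,5,6,7],
  [8,0,3,6,9,1,4,7,10,2,5],
  [8,6,4,2,0,9,7,5,3,1,10],
  [8,2,7,1,6,0,5,10,4,9,3],
  [8,1,5,9,2,6,10,3,7,0,4],
  [9,10,0,1,2,3,4,5,6,7,8],
  [9,1,4,7,10,2,5,8,0,3,6],
  [9,7,5,3,1,10,8,6,4,2,0],
  [9,3,8,2,7,1,6,0,5,10,4],
  [9,2,6,10,3,7,0,4,8,1,5],
  [10,0,1,2,3,4,5,6,7,8,9],
  [10,2,5,8,0,3,6,9,1,4,7],
  [10,8,6,4,2,0,9,7,5,3,1],
  [10,4,9,3,8,2,7,1,6,0,5],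
  [10,3,7,0,4,8,1,5,9,2,6]]

/-- The test. -/
def test (z : List ℕ) : Bool :=
  cond (allK (fun h => okA h z) hT)
    (allK (fun h => let w := mulL h z; loopP w 11 w) hT) false

/-- Equality of lists. -/
def eqL (a : List ℕ) : List ℕ → Bool :=
  List.rec (fun b => List.rec true (fun _ _ _ => false) b)
    (fun a _ ih b => List.rec false (fun c t _ => cond (Nat.beq a c) (ih t) false) b) a

theorem eqL_iff (a b : List ℕ) : eqL a b = true ↔ a = b := by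
  induction a generalizing b with
  | nil => cases b <;> simp [eqL]
  | cons a l ih =>
    cases b with
    | nil => simp [eqL]
    | cons c t =>
      show cond (Nat.beq a c) (eqL l t) false = true ↔ _
      cases h : Nat.beq a c
      · have : a ≠ c := fun h' => by simp [h'] at h
        simp [this]
      · have : a = c := Nat.eq_of_beq_eq_true h
        simp [this, ih]

/-- The two solutions. -/
def z1L : List ℕ := [0, 1, 2, 4, 5, 10, 8, 6, 9, 7, 3]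

/-- The two solutions. -/
def z2L : List ℕ := [0, 1, 2, 4, 9, 8, 10, 3, 6, 7, 5]

set_option maxRecDepth 100000 in
/-- The search. -/
theorem check : allK (fun l => cond (test (0 :: 1 :: 2 :: 4 :: l))
     (cond (eqL (0 :: 1 :: 2 :: 4 :: l) z1L) true (eqL (0 :: 1 :: 2 :: 4 :: l) z2L)) true)
     (List.permutations' [3, 5, 6, 7, 8, 9, 10]) = true := by
  decide +kernel

theorem eq_of_test {l : List ℕ} (hl : l.Perm [3, 5, 6, 7, 8, 9, 10])
    (ht : test (0 :: 1 :: 2 :: 4 :: l) = true) :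
    0 :: 1 :: 2 :: 4 :: l = z1L ∨ 0 :: 1 :: 2 :: 4 :: l = z2L := by
  have h1 := (allK_iff _ _).1 check l (List.mem_permutations'.2 hl)
  simp only [ht, cond_true] at h1
  cases h2 : eqL (0 :: 1 :: 2 :: 4 :: l) z1L
  · rw [h2] at h1
    exact Or.inr ((eqL_iff _ _).1 h1)
  · exact Or.inl ((eqL_iff _ _).1 h2)

end Cfsg.Agent.Lib.M11U.NFSearch
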