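import Cfsg.Agent.Lib.M11U.Syl11
import Cfsg.Agent.Lib.M11U.NFSearch

/-!
# Normal form for sharply 4-transitive groups of degree 11 and order 7920

Any simple group `H ≤ Sym(11)` of order 7920 whose non-trivial elements have at most three fixed
points is conjugate to one concrete group `K`, the closure of three explicit permutations.
-/

set_option autoImplicit false

namespace Cfsg.Agent.Lib.M11U.NormalForm

open Cfsg.Agent.Lib.M11U.NFSearch

/-! ## Explicit permutations -/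

/-- The rotation. -/
def x : P11 := ⟨![1, 2, 3, 4, 5, 6, 7, 8, 9, 10, 0], ![10, 0, 1, 2, 3, 4, 5, 6, 7, 8, 9],
  by intro i; fin_cases i <;> rfl, by intro i; fin_cases i <;> rfl⟩

/-- Multiplication by 3. -/
def y : P11 := ⟨![0, 3, 6, 9, 1, 4, 7, 10, 2, 5, 8], ![0, 4, 8, 1, 5, 9, 2, 6, 10, 3, 7],
  by intro i; fin_cases i <;> rfl, by intro i; fin_cases i <;> rfl⟩

/-- The first solution. -/
def z₁ : P11 := ⟨![0, 1, 2, 4, 5, 10, 8, 6, 9, 7, 3], ![0, 1, 2, 10, 3, 4, 7, 9, 6, 8, 5],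
  by intro i; fin_cases i <;> rfl, by intro i; fin_cases i <;> rfl⟩

/-- The second solution. -/
def z₂ : P11 := ⟨![0, 1, 2, 4, 9, 8, 10, 3, 6, 7, 5], ![0, 1, 2, 7, 3, 10, 8, 9, 5, 4, 6],
  by intro i; fin_cases i <;> rfl, by intro i; fin_cases i <;> rfl⟩

/-- The sign change. -/
def neg : P11 := ⟨![0, 10, 9, 8, 7, 6, 5, 4, 3, 2, 1], ![0, 10, 9, 8, 7, 6, 5, 4, 3, 2, 1],
  by intro i; fin_cases i <;> rfl, by intro i; fin_cases i <;> rfl⟩

/-- The conjugate of the second solution under the sign change. -/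
def zz : P11 := ⟨![0, 6, 4, 5, 8, 1, 3, 2, 7, 9, 10], ![0, 5, 7, 6, 2, 3, 1, 8, 4, 9, 10],
  by intro i; fin_cases i <;> rfl, by intro i; fin_cases i <;> rfl⟩

/-- The group. -/
def K : Subgroup P11 := Subgroup.closure {x, y, z₁}

theorem x_eq_finRotate : x = finRotate 11 := by
  ext i
  rw [finRotate_apply]
  revert i
  decide

theorem neg_conj_x : neg * x * neg⁻¹ = x⁻¹ := by decide
theorem neg_conj_y : neg * y * neg⁻¹ = y := by decide
theorem neg_conj_z₂ : neg * z₂ * neg⁻¹ = zz := by decide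
theorem z₁_word : z₁ = zz * y * zz * y * y * zz * zz * y := by decide

/-! ## Value lists -/

/-- Value list. -/
def toL (σ : P11) : List ℕ :=
  [(σ 0).val, (σ 1).val, (σ 2).val, (σ 3).val, (σ 4).val, (σ 5).val, (σ 6).val, (σ 7).val,
    (σ 8).val, (σ 9).val, (σ 10).val]

theorem ap_toL (σ : P11) (i : Fin 11) : ap (toL σ) i.val = (σ i).val := by
  fin_cases i <;> rfl

theorem mulL_toL (a b : P11) : mulL (toL a) (toL b) = toL (a * b) := by
  have h (i : Fin 11) := ap_toL a (b i)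
  show [ap (toL a) (b 0).val, ap (toL a) (b 1).val, ap (toL a) (b 2).val, ap (toL a) (b 3).val,
    ap (toL a) (b 4).val, ap (toL a) (b 5).val, ap (toL a) (b 6).val, ap (toL a) (b 7).val,
    ap (toL a) (b 8).val, ap (toL a) (b 9).val, ap (toL a) (b 10).val] = _
  simp only [h]
  rfl

theorem toL_one : toL (1 : P11) = idL := rfl

theorem toL_injective : Function.Injective toL := by
  intro a b h
  ext i
  rw [← ap_toL, ← ap_toL, h]

theorem sum11 (f : Fin 11 → ℕ) : ∑ i, f i =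
    f 0 + f 1 + f 2 + f 3 + f 4 + f 5 + f 6 + f 7 + f 8 + f 9 + f 10 := by
  simp [Fin.sum_univ_succ]
  ring_nf
  try rfl

theorem agreeAux_acc (t s : List ℕ) (acc : ℕ) : agreeAux t s acc = agreeAux t s 0 + acc := by
  induction t generalizing s acc with
  | nil => simp [agreeAux]
  | cons c t ih =>
    cases s with
    | nil => simp [agreeAux]
    | cons d s =>
      show agreeAux t s (cond (Nat.beq c d) (Nat.succ acc) acc) =
        agreeAux t s (cond (Nat.beq c d) (Nat.succ 0) 0) + acc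
      rw [ih _ (cond (Nat.beq c d) (Nat.succ acc) acc), ih _ (cond (Nat.beq c d) (Nat.succ 0) 0)]
      cases Nat.beq c d <;> simp <;> omega

theorem agreeAux_cons (c d : ℕ) (t s : List ℕ) :
    agreeAux (c :: t) (d :: s) 0 = agreeAux t s 0 + (if c = d then 1 else 0) := by
  show agreeAux t s (cond (Nat.beq c d) (Nat.succ 0) 0) = _
  rw [agreeAux_acc]
  by_cases h : c = d
  · subst h
    simp
  · have h' : Nat.beq c d = false := by
      rw [← Bool.not_eq_true]
      exact fun h2 => h (Nat.eq_of_beq_eq_true h2)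
    simp [h, h']

theorem agree_toL (a b : P11) :
    agreeAux (toL a) (toL b) 0 = (Finset.univ.filter fun i => a i = b i).card := by
  rw [Finset.card_filter, sum11]
  simp only [toL, agreeAux_cons, Fin.val_inj]
  show 0 + _ + _ + _ + _ + _ + _ + _ + _ + _ + _ + _ = _
  ring

/-- Non-trivial elements have at most three fixed points. -/
def Free (H : Subgroup P11) : Prop :=
  ∀ g ∈ H, ∀ s : Finset (Fin 11), 4 ≤ s.card → (∀ i ∈ s, g i = i) → g = 1

variable {H : Subgroup P11}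

theorem eq_of_four (hfree : Free H) {a b : P11} (ha : a ∈ H) (hb : b ∈ H)
    (s : Finset (Fin 11)) (hs : 4 ≤ s.card) (hab : ∀ i ∈ s, a i = b i) : a = b := by
  have h1 := hfree (a⁻¹ * b) (H.mul_mem (H.inv_mem ha) hb) s hs (by
    intro i hi
    rw [Equiv.Perm.mul_apply, ← hab i hi]
    simp)
  rw [inv_mul_eq_one] at h1
  exact h1

theorem okA_of_mem (hfree : Free H) {a b : P11} (ha : a ∈ H) (hb : b ∈ H) :
    okA (toL a) (toL b) = true := by
  show cond (Nat.ble (agreeAux (toL a) (toL b) 0) 3) true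
    (Nat.beq (agreeAux (toL a) (toL b) 0) 11) = true
  by_cases h : agreeAux (toL a) (toL b) 0 ≤ 3
  · rw [Nat.ble_eq_true_of_le h]
    rfl
  · have hab : a = b := by
      rw [agree_toL] at h
      apply eq_of_four hfree ha hb (Finset.univ.filter fun i => a i = b i) (by omega)
      intro i hi
      exact (Finset.mem_filter.1 hi).2
    subst hab
    have h2 : Nat.ble (agreeAux (toL a) (toL a) 0) 3 = false := by
      rw [← Bool.not_eq_true]
      exact fun h3 => h (Nat.le_of_ble_eq_true h3)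
    rw [h2, agree_toL]
    simp

theorem loopP_of_mem (hfree : Free H) {w : P11} (hw : w ∈ H) (n : ℕ) :
    ∀ {u : P11}, u ∈ H → loopP (toL w) n (toL u) = true := by
  induction n with
  | zero => intro u _; rfl
  | succ n ih =>
    intro u hu
    show cond (okA (toL u) idL) (loopP (toL w) n (mulL (toL w) (toL u))) false = true
    rw [← toL_one, okA_of_mem hfree hu H.one_mem, cond_true, mulL_toL]
    exact ih (H.mul_mem hw hu)

set_option maxRecDepth 100000 in
theorem hT_spec : ∀ l ∈ hT, ∃ i ∈ List.range 11, ∃ j ∈ List.range 5, l = toL (x ^ i * y ^ j) := by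
  decide +kernel

theorem test_of_mem (hfree : Free H) (hx : x ∈ H) (hy : y ∈ H) {z : P11} (hz : z ∈ H) :
    test (toL z) = true := by
  have hm : ∀ l ∈ hT, ∃ σ ∈ H, l = toL σ := by
    intro l hl
    obtain ⟨i, -, j, -, rfl⟩ := hT_spec l hl
    exact ⟨_, H.mul_mem (H.pow_mem hx i) (H.pow_mem hy j), rfl⟩
  show cond (allK (fun h => okA h (toL z)) hT)
    (allK (fun h => let w := mulL h (toL z); loopP w 11 w) hT) false = true
  rw [(allK_iff (fun h => okA h (toL z)) hT).2, cond_true]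
  · rw [allK_iff]
    intro l hl
    obtain ⟨σ, hσ, rfl⟩ := hm l hl
    show loopP (mulL (toL σ) (toL z)) 11 (mulL (toL σ) (toL z)) = true
    rw [mulL_toL]
    exact loopP_of_mem hfree (H.mul_mem hσ hz) 11 (H.mul_mem hσ hz)
  · intro l hl
    obtain ⟨σ, hσ, rfl⟩ := hm l hl
    exact okA_of_mem hfree hσ hz

theorem toL_z₁ : toL z₁ = z1L := rfl
theorem toL_z₂ : toL z₂ = z2L := rfl

theorem z_cases (hfree : Free H) (hx : x ∈ H) (hy : y ∈ H) {z : P11} (hz : z ∈ H)
    (h0 : z 0 = 0) (h1 : z 1 = 1) (h2 : z 2 = 2) (h3 : z 3 = 4) : z = z₁ ∨ z = z₂ := by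
  have hp : (toL z).Perm idL := by
    have h4 : toL z = ((List.finRange 11).map z).map Fin.val := rfl
    rw [h4]
    exact (Equiv.Perm.map_finRange_perm z).map Fin.val
  obtain ⟨l, hl⟩ : ∃ l, toL z = 0 :: 1 :: 2 :: 4 :: l :=
    ⟨[(z 4).val, (z 5).val, (z 6).val, (z 7).val, (z 8).val, (z 9).val, (z 10).val], by
      simp [toL, h0, h1, h2, h3]⟩
  have hl2 : l.Perm [3, 5, 6, 7, 8, 9, 10] := by
    rw [hl] at hp
    have h5 : idL.Perm (0 :: 1 :: 2 :: 4 :: [3, 5, 6, 7, 8, 9, 10]) := by decide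
    have h6 := hp.trans h5
    simpa only [List.perm_cons] using h6
  have ht := test_of_mem hfree hx hy hz
  rw [hl] at ht
  rcases eq_of_test hl2 ht with h | h
  · left
    apply toL_injective
    rw [hl, h, toL_z₁]
  · right
    apply toL_injective
    rw [hl, h, toL_z₂]

/-! ## Sharp transitivity -/

theorem exists_of_embedding (hcard : Nat.card H = 7920) (hfree : Free H) (f : Fin 4 ↪ Fin 11) :
    ∃ h ∈ H, ∀ i : Fin 4, h (Fin.castLE (by norm_num) i) = f i := by
  let ι : Fin 4 ↪ Fin 11 := Fin.castLEEmb (by norm_num)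
  let φ : H → (Fin 4 ↪ Fin 11) := fun h => ι.trans (h : P11).toEmbedding
  have hinj : Function.Injective φ := by
    intro a b hab
    apply Subtype.ext
    apply eq_of_four hfree a.2 b.2 (Finset.univ.image ι) (by
      rw [Finset.card_image_of_injective _ ι.injective]
      simp)
    intro i hi
    obtain ⟨j, -, rfl⟩ := Finset.mem_image.1 hi
    exact DFunLike.congr_fun hab j
  have hbij := hinj.bijective_of_nat_card_le (by
    rw [hcard, Nat.card_eq_fintype_card, Fintype.card_embedding_eq]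
    simp [Nat.descFactorial])
  obtain ⟨h, hh⟩ := hbij.2 f
  refine ⟨h, h.2, fun i => ?_⟩
  exact DFunLike.congr_fun hh i

theorem exists_z (hcard : Nat.card H = 7920) (hfree : Free H) :
    ∃ z ∈ H, z 0 = 0 ∧ z 1 = 1 ∧ z 2 = 2 ∧ z 3 = 4 := by
  obtain ⟨h, hh, hf⟩ := exists_of_embedding hcard hfree
    ⟨![0, 1, 2, 4], by decide⟩
  exact ⟨h, hh, hf 0, hf 1, hf 2, hf 3⟩

/-! ## Identification with `K` -/

/-- Generators. -/
def gen : Fin 3 → P11 := ![x, y, z₁]

/-- Words. -/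
def evalW (w : List (Fin 3)) : P11 := (w.map gen).prod

theorem evalW_mem (w : List (Fin 3)) : evalW w ∈ K := by
  induction w with
  | nil => exact K.one_mem
  | cons a w ih =>
    have h : evalW (a :: w) = gen a * evalW w := by simp [evalW]
    rw [h]
    refine K.mul_mem (Subgroup.subset_closure ?_) ih
    fin_cases a <;> simp [gen]

/-- Words fixing 0 and moving 1. -/
def W1 : List (List (Fin 3)) := [[], [1], [1, 1], [2, 1], [1, 1, 1], [2, 1, 1], [1, 2, 1, 1],
  [2, 2, 1, 1], [1, 1, 2, 1, 1], [1, 1, 1, 2, 1, 1]]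

/-- Words fixing 0, 1 and moving 2. -/
def W2 : List (List (Fin 3)) := [[], [1, 1, 2, 2, 1], [2, 1, 1, 2, 2, 1], [1, 0, 2, 1, 1, 1, 0],
  [2, 2, 1, 1, 2, 2, 1], [0, 1, 0, 0, 0, 2, 1, 0], [0, 1, 0, 0, 2, 2, 1, 0],
  [0, 2, 0, 2, 0, 2, 0, 0], [2, 1, 0, 2, 1, 1, 1, 0]]

/-- Words fixing 0, 1, 2 and moving 3. -/
def W3 : List (List (Fin 3)) := [[], [2], [2, 2], [1, 2, 1], [0, 0, 1, 2, 2, 0, 0, 1, 0],
  [1, 0, 0, 2, 1, 0, 1, 1, 0], [1, 0, 1, 2, 1, 0, 0, 2, 0], [0, 0, 1, 2, 2, 0, 0, 1, 0, 2]]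

theorem W1_spec : ∀ j : Fin 11, j ≠ 0 → ∃ w ∈ W1, evalW w 0 = 0 ∧ evalW w 1 = j := by decide +kernel

theorem W2_spec : ∀ j : Fin 11, j ≠ 0 → j ≠ 1 →
    ∃ w ∈ W2, evalW w 0 = 0 ∧ evalW w 1 = 1 ∧ evalW w 2 = j := by decide +kernel

theorem W3_spec : ∀ j : Fin 11, j ≠ 0 → j ≠ 1 → j ≠ 2 →
    ∃ w ∈ W3, evalW w 0 = 0 ∧ evalW w 1 = 1 ∧ evalW w 2 = 2 ∧ evalW w 3 = j := by decide +kernel

theorem x_pow_val (n : ℕ) (a : Fin 11) : ((x ^ n) a).val = (a.val + n) % 11 := by
  induction n with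
  | zero => simp [Nat.mod_eq_of_lt a.2]
  | succ n ih =>
    have h : ∀ i : Fin 11, (x i).val = (i.val + 1) % 11 := by decide
    rw [pow_succ', Equiv.Perm.mul_apply, h, ih]
    omega

theorem exists_K_agree (h : P11) : ∃ k ∈ K, k 0 = h 0 ∧ k 1 = h 1 ∧ k 2 = h 2 ∧ k 3 = h 3 := by
  -- first step
  let k₁ : P11 := x ^ (h 0).val
  have hk₁ : k₁ ∈ K := K.pow_mem (Subgroup.subset_closure (by simp)) _
  have hk₁0 : k₁ 0 = h 0 := by
    apply Fin.ext
    rw [x_pow_val]
    simp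
  -- second step
  let u : P11 := k₁⁻¹ * h
  have hu0 : u 0 = 0 := by
    show k₁⁻¹ (h 0) = 0
    rw [← hk₁0]
    simp
  have hu1 : u 1 ≠ 0 := by
    intro h1
    have := u.injective (h1.trans hu0.symm)
    exact absurd this (by decide)
  obtain ⟨w₂, -, hw₂0, hw₂1⟩ := W1_spec (u 1) hu1
  -- third step
  let v : P11 := (evalW w₂)⁻¹ * u
  have hv0 : v 0 = 0 := by
    show (evalW w₂)⁻¹ (u 0) = 0
    rw [hu0, Equiv.Perm.inv_eq_iff_eq, hw₂0]
  have hv1 : v 1 = 1 := by
    show (evalW w₂)⁻¹ (u 1) = 1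
    rw [Equiv.Perm.inv_eq_iff_eq, hw₂1]
  have hv2a : v 2 ≠ 0 := fun h1 => absurd (v.injective (h1.trans hv0.symm)) (by decide)
  have hv2b : v 2 ≠ 1 := fun h1 => absurd (v.injective (h1.trans hv1.symm)) (by decide)
  obtain ⟨w₃, -, hw₃0, hw₃1, hw₃2⟩ := W2_spec (v 2) hv2a hv2b
  -- fourth step
  let t : P11 := (evalW w₃)⁻¹ * v
  have ht0 : t 0 = 0 := by
    show (evalW w₃)⁻¹ (v 0) = 0
    rw [hv0, Equiv.Perm.inv_eq_iff_eq, hw₃0]
  have ht1 : t 1 = 1 := by
    show (evalW w₃)⁻¹ (v 1) = 1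
    rw [hv1, Equiv.Perm.inv_eq_iff_eq, hw₃1]
  have ht2 : t 2 = 2 := by
    show (evalW w₃)⁻¹ (v 2) = 2
    rw [Equiv.Perm.inv_eq_iff_eq, hw₃2]
  have ht3a : t 3 ≠ 0 := fun h1 => absurd (t.injective (h1.trans ht0.symm)) (by decide)
  have ht3b : t 3 ≠ 1 := fun h1 => absurd (t.injective (h1.trans ht1.symm)) (by decide)
  have ht3c : t 3 ≠ 2 := fun h1 => absurd (t.injective (h1.trans ht2.symm)) (by decide)
  obtain ⟨w₄, -, hw₄0, hw₄1, hw₄2, hw₄3⟩ := W3_spec (t 3) ht3a ht3b ht3c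
  have hh : h = k₁ * (evalW w₂ * (evalW w₃ * t)) := by
    show h = k₁ * (evalW w₂ * (evalW w₃ * ((evalW w₃)⁻¹ * ((evalW w₂)⁻¹ * (k₁⁻¹ * h)))))
    group
  refine ⟨k₁ * (evalW w₂ * (evalW w₃ * evalW w₄)), K.mul_mem hk₁ (K.mul_mem (evalW_mem _)
    (K.mul_mem (evalW_mem _) (evalW_mem _))), ?_, ?_, ?_, ?_⟩ <;> rw [hh] <;>
    simp only [Equiv.Perm.mul_apply, hw₄0, hw₄1, hw₄2, hw₄3, ht0, ht1, ht2]

theorem eq_K (hfree : Free H) (hx : x ∈ H) (hy : y ∈ H) (hz : z₁ ∈ H) : H = K := by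
  have hle : K ≤ H := by
    rw [K, Subgroup.closure_le]
    intro g hg
    simp only [Set.mem_insert_iff, Set.mem_singleton_iff] at hg
    rcases hg with rfl | rfl | rfl
    · exact hx
    · exact hy
    · exact hz
  refine le_antisymm ?_ hle
  intro h hh
  obtain ⟨k, hk, h0, h1, h2, h3⟩ := exists_K_agree h
  have : k = h := eq_of_four hfree (hle hk) hh ({0, 1, 2, 3} : Finset (Fin 11)) (by decide) (by
    intro i hi
    simp only [Finset.mem_insert, Finset.mem_singleton] at hi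
    rcases hi with rfl | rfl | rfl | rfl <;> assumption)
  rwa [← this]

/-! ## Conjugates -/

/-- The conjugate of a subgroup. -/
def cj (τ : P11) (H : Subgroup P11) : Subgroup P11 := H.map (MulAut.conj τ).toMonoidHom

theorem mem_cj {τ g : P11} : g ∈ cj τ H ↔ τ⁻¹ * g * τ ∈ H := by
  constructor
  · rintro ⟨h, hh, rfl⟩
    simpa [mul_assoc] using hh
  · intro h
    refine ⟨_, h, ?_⟩
    simp [mul_assoc]

theorem conj_mem_cj {τ g : P11} (hg : g ∈ H) : τ * g * τ⁻¹ ∈ cj τ H := by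
  rw [mem_cj]
  simpa [mul_assoc] using hg

theorem cj_cj (τ₁ τ₂ : P11) : cj τ₂ (cj τ₁ H) = cj (τ₂ * τ₁) H := by
  ext g
  simp only [mem_cj]
  simp [mul_assoc]

/-- The conjugation isomorphism. -/
noncomputable def cjEquiv (τ : P11) (H : Subgroup P11) : H ≃* cj τ H :=
  (MulAut.conj τ).subgroupMap H

theorem card_cj (τ : P11) : Nat.card (cj τ H) = Nat.card H :=
  (Nat.card_congr (cjEquiv τ H).toEquiv).symm

theorem simple_cj (τ : P11) [IsSimpleGroup H] : IsSimpleGroup (cj τ H) :=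
  (cjEquiv τ H).symm.isSimpleGroup

theorem free_cj (τ : P11) (hfree : Free H) : Free (cj τ H) := by
  intro g hg s hs hfix
  rw [mem_cj] at hg
  have h1 := hfree _ hg (s.image τ.symm) (by
    rw [Finset.card_image_of_injective _ τ.symm.injective]
    exact hs) (by
    intro i hi
    obtain ⟨j, hj, rfl⟩ := Finset.mem_image.1 hi
    simp [Equiv.Perm.mul_apply, hfix j hj])
  calc g = τ * (τ⁻¹ * g * τ) * τ⁻¹ := by group
    _ = 1 := by rw [h1]; group

/-! ## The reduction steps -/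

theorem orderOf_x : orderOf x = 11 := orderOf_eq_prime (by decide) (by decide)

theorem exists_conj_x (hcard : Nat.card H = 7920) : ∃ τ : P11, x ∈ cj τ H := by
  obtain ⟨c, hc⟩ := exists_prime_orderOf_dvd_card' (G := H) 11 (by rw [hcard]; norm_num)
  have hc' : orderOf (c : P11) = 11 := by rwa [Subgroup.orderOf_coe]
  have hct : (c : P11).cycleType = {11} := by
    obtain ⟨n, hn⟩ := Equiv.Perm.cycleType_prime_order (σ := (c : P11)) (by rw [hc']; norm_num)
    have h2 := Equiv.Perm.sum_cycleType (c : P11)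
    have h3 := (c : P11).support.card_le_univ
    rw [hn, hc'] at h2
    simp only [Multiset.sum_replicate, smul_eq_mul, Fintype.card_fin] at h2 h3
    have hn0 : n = 0 := by omega
    rw [hn, hc', hn0]
    rfl
  have hcj : IsConj (c : P11) x := by
    rw [Equiv.Perm.isConj_iff_cycleType_eq, hct, x_eq_finRotate]
    exact (cycleType_finRotate (n := 9)).symm
  obtain ⟨τ, hτ⟩ := isConj_iff.1 hcj
  exact ⟨τ, hτ ▸ conj_mem_cj c.2⟩

/-- Affine maps. -/
def aff (k b j : Fin 11) : Fin 11 := ⟨(b.val + k.val * j.val) % 11, Nat.mod_lt _ (by norm_num)⟩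

theorem aff_key : ∀ k b : Fin 11, k ≠ 1 → (∀ i, (aff k b)^[5] i = i) →
    ∃ m : Fin 5, ∃ b' : Fin 11, ∀ i, (aff k b)^[m.val] i = aff 3 b' i := by
  decide +kernel

theorem aff_key2 : ∀ b' : Fin 11, ∃ t : Fin 11, ∀ i, (x ^ t.val) (aff 3 b' i) = y ((x ^ t.val) i) := by
  decide +kernel

theorem exists_conj_y (hcard : Nat.card H = 7920) [IsSimpleGroup H] (hx : x ∈ H) :
    ∃ τ : P11, x ∈ cj τ H ∧ y ∈ cj τ H := by
  classical
  let xH : H := ⟨x, hx⟩
  have hoxH : orderOf xH = 11 := by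
    rw [← Subgroup.orderOf_coe]
    exact orderOf_x
  have hc11 : Nat.card (Subgroup.zpowers xH) = 11 := by
    rw [Nat.card_zpowers, hoxH]
  have hp : IsPGroup 11 (Subgroup.zpowers xH) :=
    IsPGroup.of_card (n := 1) (by rw [hc11, pow_one])
  obtain ⟨Q, hQ⟩ := hp.exists_le_sylow
  have hcQ : Nat.card Q = 11 := Syl11.card11 hcard Q
  have hQeq : (Q : Subgroup H) = Subgroup.zpowers xH :=
    (Subgroup.eq_of_le_of_card_ge hQ (by rw [hcQ, hc11])).symm
  obtain ⟨-, hN, hC⟩ := Syl11.main hcard Q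
  obtain ⟨e₀, he₀⟩ := exists_prime_orderOf_dvd_card'
    (G := Subgroup.normalizer ((Q : Subgroup H) : Set H)) 5 (by rw [hN]; norm_num)
  let e : H := e₀
  have he : orderOf e = 5 := by
    rw [← he₀]
    exact Subgroup.orderOf_coe e₀
  have heN : e ∈ Subgroup.normalizer ((Q : Subgroup H) : Set H) := e₀.2
  have hconj : e * xH * e⁻¹ ∈ (Q : Subgroup H) :=
    (Subgroup.mem_normalizer_iff.1 heN xH).1 (hQ (Subgroup.mem_zpowers xH))
  rw [hQeq, mem_zpowers_iff_mem_range_orderOf, hoxH] at hconj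
  obtain ⟨k, hk, hkeq⟩ := Finset.mem_image.1 hconj
  rw [Finset.mem_range] at hk
  let E : P11 := e
  have hEo : orderOf E = 5 := by
    rw [← he]
    exact Subgroup.orderOf_coe e
  have hEH : E ∈ H := e.2
  have hEx : E * x = x ^ k * E := by
    have h1 := congrArg (fun w : H => (w : P11)) hkeq
    simp only [Subgroup.coe_pow, Subgroup.coe_mul, Subgroup.coe_inv] at h1
    have h2 : (xH : P11) = x := rfl
    rw [h2] at h1
    rw [h1]
    simp [E]
  have hsemi : SemiconjBy E x (x ^ k) := hEx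
  have hval : ∀ j : Fin 11, E j = aff ⟨k, hk⟩ (E 0) j := by
    intro j
    have h1 := (hsemi.pow_right j.val).eq
    have h2 := DFunLike.congr_fun h1 0
    simp only [Equiv.Perm.mul_apply] at h2
    have h3 : (x ^ j.val) 0 = j := by
      apply Fin.ext
      rw [x_pow_val]
      have := j.2
      simp only [Fin.val_zero, zero_add]
      omega
    rw [h3, ← pow_mul] at h2
    rw [h2]
    apply Fin.ext
    rw [x_pow_val]
    simp only [aff]
  have hEf : (E : Fin 11 → Fin 11) = aff ⟨k, hk⟩ (E 0) := funext hval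
  have hk1 : (⟨k, hk⟩ : Fin 11) ≠ 1 := by
    intro h1
    have hk1 : k = 1 := congrArg Fin.val h1
    subst hk1
    have hcomm : e * xH = xH * e := by
      apply Subtype.ext
      show E * x = x * E
      simpa using hEx
    have hmem : e ∈ Subgroup.centralizer ((Q : Subgroup H) : Set H) := by
      rw [Subgroup.mem_centralizer_iff]
      intro g hg
      rw [SetLike.mem_coe, hQeq, Subgroup.mem_zpowers_iff] at hg
      obtain ⟨n, rfl⟩ := hg
      have : Commute xH e := hcomm.symm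
      exact (this.zpow_left n).eq
    rw [hC] at hmem
    have h3 : orderOf (⟨e, hmem⟩ : (Q : Subgroup H)) ∣ Nat.card (Q : Subgroup H) :=
      orderOf_dvd_natCard _
    rw [Subgroup.orderOf_mk, he] at h3
    have : Nat.card (Q : Subgroup H) = 11 := hcQ
    rw [this] at h3
    omega
  have h5 : ∀ i, (aff ⟨k, hk⟩ (E 0))^[5] i = i := by
    intro i
    rw [← hEf, Equiv.Perm.iterate_eq_pow, ← hEo, pow_orderOf_eq_one]
    rfl
  obtain ⟨m, b', hm⟩ := aff_key _ _ hk1 h5
  let E' : P11 := E ^ m.val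
  have hE'H : E' ∈ H := H.pow_mem hEH _
  have hE' : ∀ i, E' i = aff 3 b' i := by
    intro i
    rw [← hm i, ← hEf, Equiv.Perm.iterate_eq_pow]
  obtain ⟨t, ht⟩ := aff_key2 b'
  refine ⟨x ^ t.val, ?_, ?_⟩
  · have h1 : x ^ t.val * x * (x ^ t.val)⁻¹ = x := by
      rw [(Commute.pow_left (Commute.refl x) t.val).eq]
      simp
    have h2 := conj_mem_cj (τ := x ^ t.val) hx
    rwa [h1] at h2
  · have h1 : x ^ t.val * E' * (x ^ t.val)⁻¹ = y := by
      rw [mul_inv_eq_iff_eq_mul]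
      ext i
      simp only [Equiv.Perm.mul_apply]
      rw [hE' i]
      exact congrArg Fin.val (ht i)
    have h2 := conj_mem_cj (τ := x ^ t.val) hE'H
    rwa [h1] at h2

theorem exists_conj_z (hcard : Nat.card H = 7920) (hfree : Free H) (hx : x ∈ H) (hy : y ∈ H) :
    ∃ τ : P11, x ∈ cj τ H ∧ y ∈ cj τ H ∧ z₁ ∈ cj τ H := by
  obtain ⟨z, hz, h0, h1, h2, h3⟩ := exists_z hcard hfree
  rcases z_cases hfree hx hy hz h0 h1 h2 h3 with rfl | rfl
  · refine ⟨1, ?_, ?_, ?_⟩ <;> rw [mem_cj] <;> simpa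
  · refine ⟨neg, ?_, ?_, ?_⟩
    · have := conj_mem_cj (τ := neg) hx
      rw [neg_conj_x] at this
      simpa using (cj neg H).inv_mem this
    · have := conj_mem_cj (τ := neg) hy
      rwa [neg_conj_y] at this
    · have hxx := conj_mem_cj (τ := neg) hx
      have hyy := conj_mem_cj (τ := neg) hy
      have hzz := conj_mem_cj (τ := neg) hz
      rw [neg_conj_y] at hyy
      rw [neg_conj_z₂] at hzz
      rw [z₁_word]
      set L := cj neg H
      exact L.mul_mem (L.mul_mem (L.mul_mem (L.mul_mem (L.mul_mem (L.mul_mem (L.mul_mem hzz hyy) hzz)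
        hyy) hyy) hzz) hzz) hyy

/-- The normal form theorem. -/
theorem exists_conj_eq (hcard : Nat.card H = 7920) [IsSimpleGroup H] (hfree : Free H) :
    ∃ τ : P11, cj τ H = K := by
  obtain ⟨τ₁, h1⟩ := exists_conj_x hcard
  have hs1 := simple_cj (H := H) τ₁
  obtain ⟨τ₂, h2, h3⟩ := exists_conj_y (H := cj τ₁ H) ((card_cj τ₁).trans hcard) h1
  have hc2 : Nat.card (cj τ₂ (cj τ₁ H)) = 7920 := (card_cj τ₂).trans ((card_cj τ₁).trans hcard)
  obtain ⟨τ₃, h4, h5, h6⟩ := exists_conj_z (H := cj τ₂ (cj τ₁ H)) hc2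
    (free_cj τ₂ (free_cj τ₁ hfree)) h2 h3
  refine ⟨τ₃ * (τ₂ * τ₁), ?_⟩
  rw [← cj_cj, ← cj_cj]
  exact eq_K (free_cj τ₃ (free_cj τ₂ (free_cj τ₁ hfree))) h4 h5 h6

/-- The isomorphism with the model. -/
theorem nonempty_mulEquiv (hcard : Nat.card H = 7920) [IsSimpleGroup H] (hfree : Free H) :
    Nonempty (H ≃* K) := by
  obtain ⟨τ, hτ⟩ := exists_conj_eq hcard hfree
  exact ⟨(cjEquiv τ H).trans (MulEquiv.subgroupCongr hτ)⟩

end Cfsg.Agent.Lib.M11U.NormalForm
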