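import Cfsg.Agent.Lib.M11U.SRGParam

/-!
# A group of order 7920 acting with rank 3 on 55 points, with 2-group two-point stabilisers

The action yields a strongly regular graph with parameters `(55, 18, 9, 4)`.
-/

set_option autoImplicit false
set_option linter.unusedSectionVars false
set_option linter.style.haveILetI false

namespace Cfsg.Agent.Lib.M11U.Orbit3

open MulAction

variable {G : Type*} [Group G] [Finite G] {X : Type*} [Fintype X] [DecidableEq X] [MulAction G X]

variable (G) in
/-- Order of the stabiliser of a pair. -/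
noncomputable def sz (a b : X) : ℕ := Nat.card (stabilizer G (a, b))

theorem sz_smul (g : G) (a b : X) : sz G (g • a) (g • b) = sz G a b := by
  have h : (g • a, g • b) = g • (a, b) := rfl
  unfold sz
  rw [h]
  exact Nat.card_congr (MulAction.stabilizerEquivStabilizer rfl).symm.toEquiv

theorem sz_comm (a b : X) : sz G a b = sz G b a := by
  unfold sz
  apply Nat.card_congr
  refine Equiv.subtypeEquivRight fun g => ?_
  simp only [mem_stabilizer_iff, Prod.smul_mk, Prod.mk.injEq]
  tauto

variable (G) in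
/-- Adjacency: the stabiliser has order 8. -/
def Adj (a b : X) : Prop := a ≠ b ∧ sz G a b = 8

theorem adj_symm {a b : X} (h : Adj G a b) : Adj G b a :=
  ⟨h.1.symm, by rw [sz_comm]; exact h.2⟩

theorem adj_smul (g : G) {a b : X} : Adj G (g • a) (g • b) ↔ Adj G a b := by
  unfold Adj
  rw [sz_smul, Ne, smul_left_cancel_iff]

/-- Orbit count to sizes of the orbits. -/
theorem orbit_data [IsPretransitive G X] (hG : Nat.card G = 7920) (hX : Fintype.card X = 55)
    (horb : Nat.card (orbitRel.Quotient G (X × X)) = 3)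
    (hsz : ∀ a b : X, a ≠ b → sz G a b ∈ ({1, 2, 4, 8, 16} : Finset ℕ)) :
    ∃ p₈ p₄ : X × X, p₈.1 ≠ p₈.2 ∧ p₄.1 ≠ p₄.2 ∧ sz G p₈.1 p₈.2 = 8 ∧ sz G p₄.1 p₄.2 = 4 ∧
      Nat.card (orbit G p₈) = 990 ∧
      ∀ p : X × X, p.1 ≠ p.2 → p ∈ orbit G p₈ ∨ p ∈ orbit G p₄ := by
  classical
  letI : Fintype (orbitRel.Quotient G (X × X)) := Fintype.ofFinite _
  letI : Fintype G := Fintype.ofFinite _
  have hne : Nonempty X := by
    rw [← Fintype.card_pos_iff, hX]
    norm_num
  obtain ⟨a₀⟩ := hne
  let mk : X × X → orbitRel.Quotient G (X × X) := fun p => Quotient.mk (orbitRel G (X × X)) p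
  let o₀ := mk (a₀, a₀)
  have hmk : ∀ p q : X × X, mk p = mk q ↔ p ∈ orbit G q := by
    intro p q
    rw [← MulAction.orbitRel_apply]
    exact Quotient.eq''
  have hdiag : ∀ p : X × X, mk p = o₀ ↔ p.1 = p.2 := by
    intro p
    rw [hmk]
    constructor
    · rintro ⟨g, rfl⟩
      rfl
    · intro h
      obtain ⟨g, hg⟩ := exists_smul_eq G a₀ p.1
      refine ⟨g, Prod.ext hg ?_⟩
      show g • a₀ = p.2
      rw [hg, h]
  have hcard : (Finset.univ.erase o₀).card = 2 := by
    rw [Finset.card_erase_of_mem (Finset.mem_univ _), Finset.card_univ, ← Nat.card_eq_fintype_card,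
      horb]
  obtain ⟨o₁, o₂, ho, ho'⟩ := Finset.card_eq_two.1 hcard
  obtain ⟨p₁, hp₁⟩ : ∃ p, mk p = o₁ := Quotient.exists_rep o₁
  obtain ⟨p₂, hp₂⟩ : ∃ p, mk p = o₂ := Quotient.exists_rep o₂
  have ho₁ : o₁ ≠ o₀ := by
    have : o₁ ∈ Finset.univ.erase o₀ := by rw [ho']; simp
    exact (Finset.mem_erase.1 this).1
  have ho₂ : o₂ ≠ o₀ := by
    have : o₂ ∈ Finset.univ.erase o₀ := by rw [ho']; simp
    exact (Finset.mem_erase.1 this).1
  have hall : ∀ o, o = o₀ ∨ o = o₁ ∨ o = o₂ := by
    intro o
    by_cases h : o = o₀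
    · exact Or.inl h
    · have : o ∈ Finset.univ.erase o₀ := Finset.mem_erase.2 ⟨h, Finset.mem_univ _⟩
      rw [ho'] at this
      simp only [Finset.mem_insert, Finset.mem_singleton] at this
      exact Or.inr this
  have hoff₁ : p₁.1 ≠ p₁.2 := fun h => ho₁ (hp₁ ▸ (hdiag p₁).2 h)
  have hoff₂ : p₂.1 ≠ p₂.2 := fun h => ho₂ (hp₂ ▸ (hdiag p₂).2 h)
  -- sizes of the fibres
  have hfib : ∀ p : X × X, ((Finset.univ.filter fun q => mk q = mk p).card) * sz G p.1 p.2 = 7920 := by
    intro p
    have h1 := card_orbit_mul_card_stabilizer_eq_card_group G p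
    simp only [← Nat.card_eq_fintype_card] at h1
    rw [hG] at h1
    have h2 : Nat.card (orbit G p) = (Finset.univ.filter fun q => mk q = mk p).card := by
      symm
      rw [← Fintype.card_subtype, ← Nat.card_eq_fintype_card]
      apply Nat.card_congr
      exact Equiv.subtypeEquivRight fun q => hmk q p
    rw [← h2]
    exact h1
  have hsum : (Finset.univ : Finset (X × X)).card =
      ∑ o, (Finset.univ.filter fun q => mk q = o).card :=
    Finset.card_eq_sum_card_fiberwise (fun _ _ => Finset.mem_coe.2 (Finset.mem_univ _))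
  rw [← Finset.add_sum_erase _ _ (Finset.mem_univ o₀), ho', Finset.sum_pair ho] at hsum
  have hD : (Finset.univ.filter fun q => mk q = o₀).card = 55 := by
    rw [← hX]
    have : (Finset.univ.filter fun q => mk q = o₀) =
        (Finset.univ : Finset X).image fun a => (a, a) := by
      ext q
      simp only [Finset.mem_filter, Finset.mem_univ, true_and, Finset.mem_image, hdiag]
      constructor
      · intro h
        exact ⟨q.1, Prod.ext rfl h⟩
      · rintro ⟨a, rfl⟩
        rfl
    rw [this, Finset.card_image_of_injective _ (fun a b h => (Prod.ext_iff.1 h).1), Finset.card_univ]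
  have htot : (Finset.univ : Finset (X × X)).card = 3025 := by
    rw [Finset.card_univ, Fintype.card_prod, hX]
  have h1 := hfib p₁
  have h2 := hfib p₂
  rw [hp₁] at h1
  rw [hp₂] at h2
  have hs1 := hsz _ _ hoff₁
  have hs2 := hsz _ _ hoff₂
  rw [htot, hD] at hsum
  have horbc : ∀ p : X × X, Nat.card (orbit G p) = (Finset.univ.filter fun q => mk q = mk p).card := by
    intro p
    symm
    rw [← Fintype.card_subtype, ← Nat.card_eq_fintype_card]
    apply Nat.card_congr
    exact Equiv.subtypeEquivRight fun q => hmk q p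
  have hc1 := horbc p₁
  have hc2 := horbc p₂
  rw [hp₁] at hc1
  rw [hp₂] at hc2
  have hcover : ∀ p : X × X, p.1 ≠ p.2 → p ∈ orbit G p₁ ∨ p ∈ orbit G p₂ := by
    intro p hp
    rcases hall (mk p) with h | h | h
    · exact absurd ((hdiag p).1 h) hp
    · left
      rw [← hmk, h, hp₁]
    · right
      rw [← hmk, h, hp₂]
  simp only [Finset.mem_insert, Finset.mem_singleton] at hs1 hs2
  set f₁ := (Finset.univ.filter fun q => mk q = o₁).card
  set f₂ := (Finset.univ.filter fun q => mk q = o₂).card
  have hcase : (sz G p₁.1 p₁.2 = 8 ∧ sz G p₂.1 p₂.2 = 4 ∧ f₁ = 990) ∨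
      (sz G p₁.1 p₁.2 = 4 ∧ sz G p₂.1 p₂.2 = 8 ∧ f₂ = 990) := by
    rcases hs1 with h | h | h | h | h <;> rcases hs2 with h' | h' | h' | h' | h' <;>
      rw [h] at h1 <;> rw [h'] at h2 <;> rw [h, h'] <;> omega
  rcases hcase with ⟨h3, h4, h5⟩ | ⟨h3, h4, h5⟩
  · exact ⟨p₁, p₂, hoff₁, hoff₂, h3, h4, by rw [hc1, h5], hcover⟩
  · exact ⟨p₂, p₁, hoff₂, hoff₁, h4, h3, by rw [hc2, h5], fun p hp => (hcover p hp).symm⟩

/-- The strongly regular graph. -/
theorem srg_of_orbit [IsPretransitive G X] (hG : Nat.card G = 7920) (hX : Fintype.card X = 55)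
    (horb : Nat.card (orbitRel.Quotient G (X × X)) = 3)
    (hsz : ∀ a b : X, a ≠ b → sz G a b ∈ ({1, 2, 4, 8, 16} : Finset ℕ))
    [DecidableRel (Adj G : X → X → Prop)] :
    (∀ a, (Finset.univ.filter fun b : X => Adj G a b).card = 18) ∧
    (∀ a b : X, Adj G a b → (Finset.univ.filter fun c => Adj G a c ∧ Adj G b c).card = 9) ∧
    (∀ a b : X, a ≠ b → ¬ Adj G a b → (Finset.univ.filter fun c => Adj G a c ∧ Adj G b c).card = 4) := by
  classical
  obtain ⟨p₈, p₄, h8, h4, s8, s4, hc8, hcover⟩ := orbit_data hG hX horb hsz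
  have hinv : ∀ (g : G) (a : X), (Finset.univ.filter fun b : X => Adj G (g • a) b).card =
      (Finset.univ.filter fun b : X => Adj G a b).card := by
    intro g a
    refine Finset.card_bij' (fun b _ => g⁻¹ • b) (fun b _ => g • b) ?_ ?_ ?_ ?_
    · intro b hb
      simp only [Finset.mem_filter, Finset.mem_univ, true_and] at hb ⊢
      rw [← adj_smul g, smul_inv_smul]
      exact hb
    · intro b hb
      simp only [Finset.mem_filter, Finset.mem_univ, true_and] at hb ⊢
      exact (adj_smul g).2 hb
    · intro b _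
      simp
    · intro b _
      simp
  have hinvC : ∀ (g : G) (a b : X),
      (Finset.univ.filter fun c => Adj G (g • a) c ∧ Adj G (g • b) c).card =
      (Finset.univ.filter fun c => Adj G a c ∧ Adj G b c).card := by
    intro g a b
    refine Finset.card_bij' (fun c _ => g⁻¹ • c) (fun c _ => g • c) ?_ ?_ ?_ ?_
    · intro c hc
      simp only [Finset.mem_filter, Finset.mem_univ, true_and] at hc ⊢
      rw [← adj_smul g, ← adj_smul g (a := b), smul_inv_smul]
      exact hc
    · intro c hc
      simp only [Finset.mem_filter, Finset.mem_univ, true_and] at hc ⊢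
      exact ⟨(adj_smul g).2 hc.1, (adj_smul g).2 hc.2⟩
    · intro c _
      simp
    · intro c _
      simp
  have hszorb : ∀ {p q : X × X}, p ∈ orbit G q → sz G p.1 p.2 = sz G q.1 q.2 := by
    rintro p q ⟨g, rfl⟩
    exact sz_smul g q.1 q.2
  have hadj8 : ∀ a b : X, Adj G a b → (a, b) ∈ orbit G p₈ := by
    intro a b hab
    rcases hcover (a, b) hab.1 with h | h
    · exact h
    · have := hszorb h
      rw [s4] at this
      have h' : sz G a b = 8 := hab.2
      simp only at this
      omega
  have hnon4 : ∀ a b : X, a ≠ b → ¬ Adj G a b → (a, b) ∈ orbit G p₄ := by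
    intro a b hab hn
    rcases hcover (a, b) hab with h | h
    · have := hszorb h
      rw [s8] at this
      exact absurd ⟨hab, this⟩ hn
    · exact h
  -- the degree
  have hne : Nonempty X := by
    rw [← Fintype.card_pos_iff, hX]
    norm_num
  have hdeg : ∀ a, (Finset.univ.filter fun b : X => Adj G a b).card = 18 := by
    have hpairs : (Finset.univ.filter fun p : X × X => Adj G p.1 p.2).card = 990 := by
      rw [← hc8, ← Fintype.card_subtype, ← Nat.card_eq_fintype_card]
      apply Nat.card_congr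
      refine Equiv.subtypeEquivRight fun p => ⟨fun h => hadj8 p.1 p.2 h, fun h => ?_⟩
      refine ⟨?_, ?_⟩
      · obtain ⟨g, rfl⟩ := h
        exact fun h' => h8 (smul_left_cancel g h')
      · rw [hszorb h, s8]
    have hsum : (Finset.univ.filter fun p : X × X => Adj G p.1 p.2).card =
        ∑ a, (Finset.univ.filter fun b : X => Adj G a b).card := by
      rw [Finset.card_filter, Fintype.sum_prod_type]
      simp only [Finset.card_filter]
    intro a
    have hconst : ∀ b, (Finset.univ.filter fun c : X => Adj G b c).card =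
        (Finset.univ.filter fun c : X => Adj G a c).card := by
      intro b
      obtain ⟨g, rfl⟩ := exists_smul_eq G a b
      exact hinv g a
    simp only [hconst] at hsum
    rw [hpairs, Finset.sum_const, Finset.card_univ, hX, smul_eq_mul] at hsum
    omega
  -- the parameters
  have hla : ∀ a b : X, Adj G a b → (Finset.univ.filter fun c => Adj G a c ∧ Adj G b c).card =
      (Finset.univ.filter fun c => Adj G p₈.1 c ∧ Adj G p₈.2 c).card := by
    intro a b hab
    obtain ⟨g, hg⟩ := hadj8 a b hab
    have h1 : g • p₈.1 = a := congrArg Prod.fst hg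
    have h2 : g • p₈.2 = b := congrArg Prod.snd hg
    rw [← h1, ← h2, hinvC]
  have hmu : ∀ a b : X, a ≠ b → ¬ Adj G a b →
      (Finset.univ.filter fun c => Adj G a c ∧ Adj G b c).card =
      (Finset.univ.filter fun c => Adj G p₄.1 c ∧ Adj G p₄.2 c).card := by
    intro a b hab hn
    obtain ⟨g, hg⟩ := hnon4 a b hab hn
    have h1 : g • p₄.1 = a := congrArg Prod.fst hg
    have h2 : g • p₄.2 = b := congrArg Prod.snd hg
    rw [← h1, ← h2, hinvC]
  obtain ⟨hl, hm⟩ := SRGParam.params_of_srg (Adj := (Adj G : X → X → Prop)) hX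
    (fun a h => h.1 rfl) (fun a b h => adj_symm h) hdeg hla hmu
  exact ⟨hdeg, fun a b h => (hla a b h).trans hl, fun a b h h' => (hmu a b h h').trans hm⟩

end Cfsg.Agent.Lib.M11U.Orbit3
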