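import Cfsg.Agent.Lib.Ord7920.Main
import Cfsg.Agent.Lib.Small.ExcPerm
import Cfsg.Agent.Lib.BrauerP.StepC

/-!
# Rank three actions of simple groups of order 7920

A transitive action of degree 55 of a simple group of order 7920 in which the elements of order
divisible by 5 have no fixed points has rank 3: the permutation character is `1 + χ₁₀ + χ₄₄`.
-/

set_option autoImplicit false

namespace Cfsg.Agent.Lib.M11U.Rank3

open Cfsg Module MulAction
open Cfsg.Agent.Lib.Char.Basic Cfsg.Agent.Lib.Char.Ortho Cfsg.Agent.Lib.Char.Degree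
open Cfsg.Agent.Lib.ExcP.Core
open Cfsg.Agent.Lib.Ord7920.Main
open Cfsg.Agent.Lib.Small.ExcPerm
open scoped ComplexConjugate

universe u v

variable {G : Type u} [Group G] [Fintype G] [IsSimpleGroup G] [Fintype (IrrCharacter G)]
  {X : Type v} [Fintype X] [MulAction G X] [IsPretransitive G X]

/-- The sum of squares of the coefficients of the permutation character. -/
theorem sum_sq_coeff (hN : Nat.card G = 7920) (hX : Nat.card X = 55)
    (h5 : ∀ g : G, 5 ∣ orderOf g → Nat.card (fixedBy X g) = 0) :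
    classInner (fun g : G => (Nat.card (fixedBy X g) : ℂ)) (fun g : G => (Nat.card (fixedBy X g) : ℂ))
      = 3 := by
  classical
  haveI hp11 : Fact (Nat.Prime 11) := ⟨by norm_num⟩
  haveI hp5 : Fact (Nat.Prime 5) := ⟨by norm_num⟩
  haveI : Nonempty X := by
    by_contra h
    rw [not_nonempty_iff] at h
    rw [Nat.card_of_isEmpty] at hX
    omega
  obtain ⟨P⟩ : Nonempty (Sylow 11 G) := inferInstance
  obtain ⟨Q⟩ : Nonempty (Sylow 5 G) := inferInstance
  have hP := Cfsg.Agent.Lib.Small.Sieve.card_sylow_eq (k := 1) (m := 720) (hN.trans (by norm_num))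
    (by norm_num) P
  have hQ := Cfsg.Agent.Lib.Small.Sieve.card_sylow_eq (k := 1) (m := 1584) (hN.trans (by norm_num))
    (by norm_num) Q
  rw [pow_one] at hP hQ
  obtain ⟨z, a, μ, hclass, h1, h2, h3, h4, h44, h6, h7, h8, -, -, -, hE5, -⟩ :=
    Cfsg.Agent.Lib.Ord7920.Main.main hN hP hQ
  obtain ⟨m, hm1, hm2, hm3⟩ := exists_perm_coeff (G := G) (Ω := X)
  set π : G → ℂ := fun g : G => (Nat.card (fixedBy X g) : ℂ) with hπ
  set j₀ := oneIrr G with hj₀
  have hdeg₀ : charDegree (j₀ : G → ℂ) = 1 := Cfsg.Agent.Lib.Ord7920.Step11.deg_oneIrr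
  have hm₀ : m j₀ = 1 := by
    have h1' := hm1 j₀
    have h2' : classInner π ((j₀ : IrrCharacter G) : G → ℂ) = 1 :=
      Cfsg.Agent.Lib.BrauerP.Data.classInner_perm_one' (G := G) (Ω := X)
    rw [h2'] at h1'
    exact_mod_cast h1'.symm
  -- the relation at 5
  let θ : G → ℂ := ∑ j : IrrCharacter G, (a j : ℂ) • (j : G → ℂ)
  have hθ : ∀ g, θ g = ∑ j : IrrCharacter G, (a j : ℂ) * (j : G → ℂ) g := by
    intro g
    simp [θ, Finset.sum_apply]
  have h0 : classInner θ π = 0 := by
    rw [classInner_def]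
    convert mul_zero _
    refine Finset.sum_eq_zero fun g _ => ?_
    by_cases hg : 5 ∣ orderOf g
    · have hz : π g = 0 := by
        simp only [hπ]
        rw [h5 g hg]
        simp
      rw [hz, map_zero, mul_zero]
    · rw [hθ, hE5 g hg, zero_mul]
  have h1' : classInner θ π = ∑ j, (m j : ℂ) * (a j : ℂ) := by
    rw [hm3 θ]
    refine Finset.sum_congr rfl fun j _ => ?_
    congr 1
    simp only [θ]
    rw [classInner_sum_left]
    simp only [classInner_smul_left]
    rw [Finset.sum_eq_single j]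
    · rw [classInner_self_of_isIrr j.2, mul_one]
    · intro i _ hij
      rw [classInner_eq_zero_of_isIrr_of_ne i.2 j.2 (fun h => hij (Subtype.ext h)), mul_zero]
    · simp
  have hA : ∑ j, (m j : ℤ) * a j = 0 := by
    have : ((∑ j, (m j : ℤ) * a j : ℤ) : ℂ) = 0 := by
      push_cast
      rw [← h1', h0]
    exact_mod_cast this
  have hD : ∑ j, (m j : ℤ) * (charDegree (j : G → ℂ) : ℤ) = 55 := by
    have h55 := hm2.trans hX
    exact_mod_cast h55
  -- the weights
  have hcl := fun j => (hclass j).2.2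
  have hmem := fun j => (hclass j).1
  set c : IrrCharacter G → ℤ := fun j => (charDegree (j : G → ℂ) : ℤ) - 44 * a j with hc
  have hS : ∑ j, (m j : ℤ) * c j = 55 := by
    have : ∀ j, (m j : ℤ) * c j = (m j : ℤ) * (charDegree (j : G → ℂ) : ℤ) - 44 * ((m j : ℤ) * a j) := by
      intro j
      simp only [hc]
      ring
    simp only [this]
    rw [Finset.sum_sub_distrib, ← Finset.mul_sum, hA, hD]
    norm_num
  have hcval : ∀ j : IrrCharacter G, (charDegree (j : G → ℂ) = 1 ∧ c j = 45 ∧ a j = -1) ∨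
      (charDegree (j : G → ℂ) = 10 ∧ c j = 10 ∧ a j = 0) ∨
      (charDegree (j : G → ℂ) = 11 ∧ c j = 55 ∧ a j = -1) ∨
      (charDegree (j : G → ℂ) = 16 ∧ c j = 60 ∧ a j = -1) ∨
      (charDegree (j : G → ℂ) = 44 ∧ c j = 0 ∧ a j = 1) ∨
      (charDegree (j : G → ℂ) = 45 ∧ c j = 45 ∧ a j = 0) ∨
      (charDegree (j : G → ℂ) = 55 ∧ c j = 55 ∧ a j = 0) ∨
      (charDegree (j : G → ℂ) = 66 ∧ c j = 110 ∧ a j = -1) := by
    intro j
    have h1' := hmem j
    have h2' := hcl j
    simp only [hc]
    rw [h2']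
    simp only [Dg, Finset.mem_insert, Finset.mem_singleton] at h1'
    rcases h1' with h | h | h | h | h | h | h | h <;> rw [h] <;> decide
  have hnn : ∀ d, nn G d = (Finset.univ.filter fun j : IrrCharacter G =>
      charDegree (j : G → ℂ) = d).card := by
    intro d
    rw [nn]
  have hone : ∀ j : IrrCharacter G, charDegree (j : G → ℂ) = 1 → j = j₀ := by
    intro j hj
    have h3' := h1
    rw [hnn, Finset.card_eq_one] at h3'
    obtain ⟨k, hk⟩ := h3'
    have h4' : j ∈ ({k} : Finset (IrrCharacter G)) := by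
      rw [← hk]
      simp [hj]
    have h5' : j₀ ∈ ({k} : Finset (IrrCharacter G)) := by
      rw [← hk]
      simp [hdeg₀]
    rw [Finset.mem_singleton] at h4' h5'
    rw [h4', h5']
  obtain ⟨j₄₄, hj₄₄⟩ : ∃ k, (Finset.univ.filter fun j : IrrCharacter G =>
      charDegree (j : G → ℂ) = 44) = {k} := by
    have h3' := h44
    rw [hnn, Finset.card_eq_one] at h3'
    exact h3'
  have h44deg : charDegree (j₄₄ : G → ℂ) = 44 := by
    have : j₄₄ ∈ (Finset.univ.filter fun j : IrrCharacter G => charDegree (j : G → ℂ) = 44) := by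
      rw [hj₄₄]
      simp
    exact (Finset.mem_filter.1 this).2
  have h44u : ∀ j : IrrCharacter G, charDegree (j : G → ℂ) = 44 → j = j₄₄ := by
    intro j hj
    have : j ∈ (Finset.univ.filter fun j : IrrCharacter G => charDegree (j : G → ℂ) = 44) := by
      simp [hj]
    rw [hj₄₄] at this
    simpa using this
  have hne : j₀ ≠ j₄₄ := by
    intro h
    have := h44deg
    rw [← h, hdeg₀] at this
    omega
  have hnonneg : ∀ j, 0 ≤ (m j : ℤ) * c j := by
    intro j
    apply mul_nonneg (by positivity)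
    rcases hcval j with h | h | h | h | h | h | h | h <;> rw [h.2.1] <;> norm_num
  have hS' : ∑ j ∈ Finset.univ.erase j₀, (m j : ℤ) * c j = 10 := by
    have h₀ := Finset.add_sum_erase Finset.univ (fun j => (m j : ℤ) * c j) (Finset.mem_univ j₀)
    rw [hS] at h₀
    have hc₀ : c j₀ = 45 := by
      rcases hcval j₀ with h | h | h | h | h | h | h | h <;> first | exact h.2.1 | (rw [hdeg₀] at h; omega)
    have e₀ : (m j₀ : ℤ) * c j₀ = 45 := by
      rw [hm₀, hc₀]
      norm_num
    change (m j₀ : ℤ) * c j₀ + _ = 55 at h₀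
    rw [e₀] at h₀
    linarith
  have hle : ∀ j, j ≠ j₀ → (m j : ℤ) * c j ≤ 10 := by
    intro j hj
    rw [← hS']
    exact Finset.single_le_sum (f := fun j => (m j : ℤ) * c j) (fun i _ => hnonneg i)
      (Finset.mem_erase.2 ⟨hj, Finset.mem_univ j⟩)
  have hk : ∀ j, j ≠ j₀ → j ≠ j₄₄ → m j = 0 ∨ (c j = 10 ∧ a j = 0 ∧ m j = 1) := by
    intro j hj hj'
    have hl := hle j hj
    have hmn : (0 : ℤ) ≤ m j := by positivity
    rcases hcval j with h | h | h | h | h | h | h | h
    · exact absurd (hone j h.1) hj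
    · rw [h.2.1] at hl
      by_cases h0 : m j = 0
      · exact Or.inl h0
      · exact Or.inr ⟨h.2.1, h.2.2, by omega⟩
    · rw [h.2.1] at hl
      left
      omega
    · rw [h.2.1] at hl
      left
      omega
    · exact absurd (h44u j h.1) hj'
    · rw [h.2.1] at hl
      left
      omega
    · rw [h.2.1] at hl
      left
      omega
    · rw [h.2.1] at hl
      left
      omega
  have ha₀ : a j₀ = -1 := by
    rcases hcval j₀ with h | h | h | h | h | h | h | h <;> first | exact h.2.2 | (rw [hdeg₀] at h; omega)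
  have ha44 : a j₄₄ = 1 := by
    rcases hcval j₄₄ with h | h | h | h | h | h | h | h <;> first | exact h.2.2 | (rw [h44deg] at h; omega)
  have hm44 : m j₄₄ = 1 := by
    have h1' := hA
    rw [Finset.sum_eq_add j₀ j₄₄ hne (by
      intro j _ hj
      rcases hk j hj.1 hj.2 with h | h
      · simp [h]
      · simp [h.2.1]) (by simp) (by simp), hm₀, ha₀, ha44] at h1'
    omega
  have hper : ∀ j, 10 * ((m j : ℤ) * (m j : ℤ)) = (m j : ℤ) * c j + (if j = j₀ then -35 else 0) +
      (if j = j₄₄ then 10 else 0) := by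
    intro j
    by_cases h₀ : j = j₀
    · subst h₀
      have hc₀ : c j₀ = 45 := by
        rcases hcval j₀ with h | h | h | h | h | h | h | h <;> first | exact h.2.1 | (rw [hdeg₀] at h; omega)
      simp [hm₀, hc₀, hne]
    · by_cases h₁ : j = j₄₄
      · have hc₀ : c j₄₄ = 0 := by
          rcases hcval j₄₄ with h | h | h | h | h | h | h | h <;> first | exact h.2.1 | (rw [h44deg] at h; omega)
        rw [h₁] at h₀ ⊢
        simp [hm44, hc₀, h₀]
      · simp only [h₀, h₁, if_false]
        rcases hk j h₀ h₁ with h | h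
        · simp [h]
        · rw [h.1, h.2.2]
          norm_num
  have hsq : ∑ j, (m j : ℤ) * (m j : ℤ) = 3 := by
    have h1' : ∑ j, 10 * ((m j : ℤ) * (m j : ℤ)) = 30 := by
      simp only [hper]
      rw [Finset.sum_add_distrib, Finset.sum_add_distrib, hS]
      simp
    rw [← Finset.mul_sum] at h1'
    omega
  rw [hm3 π]
  have : ∀ j : IrrCharacter G, (m j : ℂ) * classInner π (j : G → ℂ) = (((m j : ℤ) * (m j : ℤ) : ℤ) : ℂ) := by
    intro j
    rw [hm1]
    push_cast
    ring
  simp only [this]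
  rw [← Int.cast_sum, hsq]
  norm_num

/-- The orbit count. -/
theorem card_orbits_prod (hN : Nat.card G = 7920) (hX : Nat.card X = 55)
    (h5 : ∀ g : G, 5 ∣ orderOf g → Nat.card (fixedBy X g) = 0) :
    Nat.card (orbitRel.Quotient G (X × X)) = 3 := by
  classical
  have h1 := sum_sq_coeff hN hX h5
  rw [classInner_def] at h1
  have hne := card_ne_zero_complex (G := G)
  have h2 : ∑ g : G, ((Nat.card (fixedBy X g) : ℂ)) * conj (Nat.card (fixedBy X g) : ℂ) =
      3 * (Nat.card G : ℂ) := by
    field_simp at h1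
    linear_combination h1
  have h3 : ∑ g : G, Nat.card (fixedBy X g) * Nat.card (fixedBy X g) = 3 * Nat.card G := by
    have : ((∑ g : G, Nat.card (fixedBy X g) * Nat.card (fixedBy X g) : ℕ) : ℂ) =
        ((3 * Nat.card G : ℕ) : ℂ) := by
      push_cast
      rw [← h2]
      refine Finset.sum_congr rfl fun g _ => ?_
      rw [Complex.conj_natCast]
    exact_mod_cast this
  letI : Fintype (orbitRel.Quotient G (X × X)) := Fintype.ofFinite _
  have h4 := sum_card_fixedBy_eq_card_orbits_mul_card_group G (X × X)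
  have h5' : ∀ g : G, Fintype.card (fixedBy (X × X) g) =
      Nat.card (fixedBy X g) * Nat.card (fixedBy X g) := by
    intro g
    rw [← Nat.card_eq_fintype_card, ← Nat.card_prod]
    apply Nat.card_congr
    refine ⟨fun p => (⟨p.1.1, ?_⟩, ⟨p.1.2, ?_⟩), fun p => ⟨(p.1.1, p.2.1), ?_⟩, ?_, ?_⟩
    · exact (Prod.ext_iff.1 p.2).1
    · exact (Prod.ext_iff.1 p.2).2
    · exact Prod.ext p.1.2 p.2.2
    · intro p
      rfl
    · intro p
      rfl
  simp only [h5'] at h4
  rw [h3, Nat.card_eq_fintype_card (α := G)] at h4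
  rw [Nat.card_eq_fintype_card]
  have hpos : 0 < Fintype.card G := Fintype.card_pos
  exact (Nat.eq_of_mul_eq_mul_right hpos h4).symm

end Cfsg.Agent.Lib.M11U.Rank3
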