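/-
Simple groups of order 7920: the Sylow 11-subgroups.
-/
import Cfsg.Prelude.Def_Sporadic
import Cfsg.Agent.Lib.Small.Sieve
import Cfsg.Agent.Lib.Small.TI
import Cfsg.Agent.Lib.SmallSimple.Sign
import Cfsg.Agent.Lib.SmallSimple.G168

set_option autoImplicit false
set_option linter.unusedSectionVars false
set_option linter.unusedVariables false

namespace Cfsg.Agent.Lib.M11U.Syl11

open MulAction Subgroup
open Cfsg.Agent.Lib.Small.Basic Cfsg.Agent.Lib.Small.Sieve Cfsg.Agent.Lib.Small.TI
open Cfsg.Agent.Lib.SmallSimple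

instance fact2 : Fact (Nat.Prime 2) := ⟨by norm_num⟩
instance fact3 : Fact (Nat.Prime 3) := ⟨by norm_num⟩
instance fact5 : Fact (Nat.Prime 5) := ⟨by norm_num⟩
instance fact11 : Fact (Nat.Prime 11) := ⟨by norm_num⟩

variable {G : Type*} [Group G] [Finite G]

/-- A free action of a subgroup on an invariant subset: the order divides the number of points. -/
theorem card_dvd_of_free {Ω : Type*} [MulAction G Ω] [Finite Ω] (V : Subgroup G) (P : Ω → Prop)
    (hP : ∀ v ∈ V, ∀ x, P x → P (v • x)) (hfree : ∀ v ∈ V, v ≠ 1 → ∀ x, P x → v • x ≠ x) :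
    Nat.card V ∣ Nat.card {x // P x} := by
  classical
  let _ : MulAction V {x // P x} :=
    { smul := fun g x => ⟨(g : G) • x.1, hP g g.2 x.1 x.2⟩
      one_smul := fun x => Subtype.ext (one_smul G x.1)
      mul_smul := fun a b x => Subtype.ext (mul_smul (a : G) (b : G) x.1) }
  have hst : ∀ b : {x // P x}, MulAction.stabilizer V b = ⊥ := by
    intro b
    rw [eq_bot_iff]
    intro v hv
    rw [Subgroup.mem_bot]
    by_contra hv1
    apply hfree v v.2 (fun h => hv1 (Subtype.ext h)) b.1 b.2
    have h1 : v • b = b := hv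
    exact congrArg Subtype.val h1
  have e := MulAction.selfEquivOrbitsQuotientProd hst
  rw [Nat.card_congr e, Nat.card_prod]
  exact Dvd.intro_left _ rfl

variable [IsSimpleGroup G] (hc : Nat.card G = 7920)

include hc

theorem notComm : ¬ IsMulCommutative G :=
  not_comm_of_not_prime (by rw [hc]; norm_num)

theorem card11 (P : Sylow 11 G) : Nat.card P = 11 := by
  have := card_sylow_eq (p := 11) (k := 1) (m := 720) (by rw [hc]; norm_num) (by norm_num) P
  simpa using this

theorem card5 (P : Sylow 5 G) : Nat.card P = 5 := by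
  have := card_sylow_eq (p := 5) (k := 1) (m := 1584) (by rw [hc]; norm_num) (by norm_num) P
  simpa using this

theorem card3 (P : Sylow 3 G) : Nat.card P = 9 := by
  have := card_sylow_eq (p := 3) (k := 2) (m := 880) (by rw [hc]; norm_num) (by norm_num) P
  simpa using this

theorem card2 (P : Sylow 2 G) : Nat.card P = 16 := by
  have := card_sylow_eq (p := 2) (k := 4) (m := 495) (by rw [hc]; norm_num) (by norm_num) P
  simpa using this

omit hc [IsSimpleGroup G] [Finite G] [Group G] in
/-- Points other than `P`. -/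
theorem card_ne {Ω : Type*} [Finite Ω] (P : Ω) : Nat.card {W : Ω // W ≠ P} = Nat.card Ω - 1 := by
  classical
  have := Fintype.ofFinite Ω
  rw [Nat.card_eq_fintype_card, Fintype.card_subtype_compl, ← Nat.card_eq_fintype_card,
    ← Nat.card_eq_fintype_card]
  simp

omit hc [IsSimpleGroup G] [Finite G] in
/-- A group element in the centralizer of `P` fixes `P`. -/
theorem smul_eq_of_mem_centralizer {p : ℕ} [Fact p.Prime] (P : Sylow p G) {g : G}
    (hg : g ∈ centralizer ((P : Subgroup G) : Set G)) : g • P = P :=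
  Sylow.smul_eq_iff_mem_normalizer.mpr (centralizer_le_normalizer _ hg)

/-- With `12` Sylow `11`-subgroups, the centralizer of one of them is itself. -/
theorem centralizer_le_of_twelve (P : Sylow 11 G) (hn : Nat.card (Sylow 11 G) = 12) :
    centralizer ((P : Subgroup G) : Set G) ≤ (P : Subgroup G) := by
  intro g hg
  have hP := card11 hc P
  have hgP : g • P = P := smul_eq_of_mem_centralizer P hg
  obtain ⟨Q, hQ⟩ : ∃ Q : Sylow 11 G, Q ≠ P := by
    have : Nontrivial (Sylow 11 G) := by
      apply Finite.one_lt_card_iff_nontrivial.mp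
      rw [hn]
      norm_num
    exact exists_ne P
  have hgQ : g • Q ≠ P := smul_ne_of_ne hQ hgP
  obtain ⟨u, hu, huQ⟩ := Sign.exists_smul_eq_of_card_eq P hP (by rw [hn]) Q (g • Q) hQ hgQ
  have hh : u⁻¹ * g = 1 := by
    apply smul_faithful (notComm hc) 11 (by rw [hc]; norm_num)
    intro W
    by_cases hW : W = P
    · rw [hW, mul_smul, hgP, inv_smul_eq_iff, smul_self_of_mem P hu]
    · obtain ⟨v, hv, rfl⟩ := Sign.exists_smul_eq_of_card_eq P hP (by rw [hn]) Q W hQ hW
      have hcomm : (u⁻¹ * g) * v = v * (u⁻¹ * g) := by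
        have h1 : g * v = v * g := ((mem_centralizer_iff.mp hg) v hv).symm
        have h2 : u⁻¹ * v = v * u⁻¹ := by
          have hab : IsMulCommutative (P : Subgroup G) := by
            have := isCyclic_of_prime_card (p := 11) (α := (P : Subgroup G)) hP
            exact IsCyclic.isMulCommutative
          exact congrArg Subtype.val (mul_comm' (⟨u⁻¹, inv_mem hu⟩ : (P : Subgroup G)) ⟨v, hv⟩)
        calc (u⁻¹ * g) * v = u⁻¹ * (g * v) := by group
          _ = u⁻¹ * (v * g) := by rw [h1]
          _ = (u⁻¹ * v) * g := by group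
          _ = (v * u⁻¹) * g := by rw [h2]
          _ = v * (u⁻¹ * g) := by group
      rw [← mul_smul, hcomm, mul_smul, mul_smul, ← huQ, inv_smul_smul]
  have : g = u := by
    rw [inv_mul_eq_one] at hh
    exact hh.symm
  rw [this]
  exact hu

/-- `[N(P) : C(P)]` divides `10`. -/
theorem relIndex_dvd_ten (P : Sylow 11 G) :
    (centralizer ((P : Subgroup G) : Set G)).relIndex (normalizer ((P : Subgroup G) : Set G)) ∣ 10 := by
  have hP := card11 hc P
  have h1 := G168.relIndex_centralizer_dvd (P : Subgroup G)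
  have := isCyclic_of_prime_card (p := 11) (α := (P : Subgroup G)) hP
  rw [IsCyclic.card_mulAut, hP] at h1
  have h2 : Nat.totient 11 = 10 := Nat.totient_prime (by norm_num)
  rwa [h2] at h1

omit hc [IsSimpleGroup G] in
/-- `|H| [K : H] = |K|` -/
theorem card_mul_relIndex {H K : Subgroup G} (h : H ≤ K) : Nat.card H * H.relIndex K = Nat.card K := by
  have h1 := (H.subgroupOf K).card_mul_index
  rwa [Nat.card_congr (subgroupOfEquivOfLe h).toEquiv] at h1

omit hc [IsSimpleGroup G] in
theorem card_subtype_and_ne {Ω : Type*} [Finite Ω] (q : Ω → Prop) (P : Ω) (hP : q P) :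
    Nat.card {W // q W} = Nat.card {W // q W ∧ W ≠ P} + 1 := by
  classical
  have := Fintype.ofFinite Ω
  simp only [Nat.card_eq_fintype_card, Fintype.card_subtype]
  have h1 : Finset.univ.filter q = insert P (Finset.univ.filter fun W => q W ∧ W ≠ P) := by
    ext W
    simp only [Finset.mem_filter, Finset.mem_univ, true_and, Finset.mem_insert]
    constructor
    · intro h
      by_cases hW : W = P
      · exact Or.inl hW
      · exact Or.inr ⟨h, hW⟩
    · rintro (rfl | h)
      · exact hP
      · exact h.1
  rw [h1, Finset.card_insert_of_notMem (by simp)]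

omit hc [IsSimpleGroup G] in
/-- An element of square one from an element of a `2`-group. -/
theorem exists_pow_involution {v : G} (hv : v ≠ 1) {k : ℕ} (hk : v ^ (2 ^ k) = 1) :
    ∃ m : ℕ, (v ^ m) ^ 2 = 1 ∧ v ^ m ≠ 1 := by
  obtain ⟨j, hj, hjo⟩ := (Nat.dvd_prime_pow Nat.prime_two).mp (orderOf_dvd_of_pow_eq_one hk)
  have hj0 : j ≠ 0 := by
    rintro rfl
    apply hv
    rw [pow_zero] at hjo
    exact orderOf_eq_one_iff.mp hjo
  obtain ⟨i, rfl⟩ := Nat.exists_eq_succ_of_ne_zero hj0
  refine ⟨2 ^ i, ?_, ?_⟩
  · rw [← pow_mul, ← pow_succ, ← hjo, pow_orderOf_eq_one]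
  · intro h
    have h1 := orderOf_dvd_of_pow_eq_one h
    rw [hjo, Nat.pow_dvd_pow_iff_le_right (by norm_num)] at h1
    omega

/-- There are not `45` Sylow `11`-subgroups. -/
theorem not_forty_five (P : Sylow 11 G) : Nat.card (Sylow 11 G) ≠ 45 := by
  intro hn
  have hG := notComm hc
  have hP := card11 hc P
  set C := centralizer ((P : Subgroup G) : Set G) with hCdef
  set N := normalizer ((P : Subgroup G) : Set G) with hNdef
  have hCN : C ≤ N := centralizer_le_normalizer _
  have hNc : Nat.card N = 176 := by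
    have h1 : Nat.card (Sylow 11 G) * Nat.card N = Nat.card G := Count.card_sylow_mul_card_normalizer P
    rw [hn, hc] at h1
    omega
  have he := relIndex_dvd_ten hc P
  have hCe := card_mul_relIndex hCN
  rw [hNc] at hCe
  -- `8` divides the order of `C`
  have h8 : 8 ∣ Nat.card C := by
    have hele : C.relIndex N ≤ 10 := Nat.le_of_dvd (by norm_num) he
    have hd : C.relIndex N ∣ 176 := ⟨_, by rw [← hCe, mul_comm]⟩
    set e := C.relIndex N with he'
    have : e = 1 ∨ e = 2 := by
      interval_cases e <;> first | omega | (revert he; decide) | (revert hd; decide)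
    rcases this with h | h <;> rw [h] at hCe <;> omega
  obtain ⟨K0, hK0⟩ := Sylow.exists_subgroup_card_pow_prime (G := C) 2 (n := 3)
    (by norm_num; exact h8)
  set K := K0.map C.subtype with hKdef
  have hKc : Nat.card K = 8 := by
    rw [hKdef, SylowBasic.card_map_subtype, hK0]
    norm_num
  have hKC : K ≤ C := by
    rintro _ ⟨a, _, rfl⟩
    exact a.2
  have hfixP : ∀ v ∈ K, v • P = P := fun v hv => smul_eq_of_mem_centralizer P (hKC hv)
  -- some non-trivial element fixes another point
  have hex : ∃ v ∈ K, v ≠ 1 ∧ ∃ W : Sylow 11 G, W ≠ P ∧ v • W = W := by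
    by_contra hcon
    push Not at hcon
    have h1 := card_dvd_of_free K (fun W : Sylow 11 G => W ≠ P)
      (fun v hv W hW => smul_ne_of_ne hW (hfixP v hv))
      (fun v hv hv1 W hW => hcon v hv hv1 W hW)
    rw [hKc, card_ne, hn] at h1
    omega
  obtain ⟨v, hvK, hv1, W, hWP, hvW⟩ := hex
  have hv8 : v ^ (2 ^ 3) = 1 := by
    have h1 : (⟨v, hvK⟩ : K) ^ Nat.card K = 1 := pow_card_eq_one'
    rw [hKc] at h1
    exact congrArg Subtype.val h1
  obtain ⟨m, hm, hm1⟩ := exists_pow_involution hv1 hv8
  set g := v ^ m with hg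
  have hgK : g ∈ K := K.pow_mem hvK m
  have hgW : g • W = W := by
    have h1 : ∀ m : ℕ, v ^ m • W = W := by
      intro m
      induction m with
      | zero => simp
      | succ m ih => rw [pow_succ, mul_smul, hvW, ih]
    exact h1 m
  have hgC := hKC hgK
  have hgP := hfixP g hgK
  have hF := card_subtype_and_ne (fun W : Sylow 11 G => g • W = W) P hgP
  have hfree := card_dvd_of_free (P : Subgroup G) (fun W : Sylow 11 G => g • W = W ∧ W ≠ P)
    (fun u hu W hW => ⟨by
        have h1 : g * u = u * g := ((mem_centralizer_iff.mp hgC) u hu).symm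
        rw [← mul_smul, h1, mul_smul, hW.1], smul_ne_of_ne hW.2 (smul_self_of_mem P hu)⟩)
    (fun u hu hu1 W hW h => hu1 (Sign.eq_one_of_smul_eq P W hP hW.2 hu h))
  rw [hP] at hfree
  have h4 := Sign.four_dvd_card_sub_fixedBy (Ω := Sylow 11 G) hG g hm
  have hfix : Nat.card (fixedBy (Sylow 11 G) g) = Nat.card {W : Sylow 11 G // g • W = W} := rfl
  rw [hfix, hn, hF] at h4
  set a := Nat.card {W : Sylow 11 G // g • W = W ∧ W ≠ P} with ha
  have ha1 : 1 ≤ a := by
    have : Nonempty {W : Sylow 11 G // g • W = W ∧ W ≠ P} := ⟨⟨W, hgW, hWP⟩⟩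
    exact Nat.card_pos
  have hale : a ≤ 44 := by
    have h1 : Nat.card {W : Sylow 11 G // g • W = W ∧ W ≠ P} ≤ Nat.card {W : Sylow 11 G // W ≠ P} :=
      Nat.card_le_card_of_injective (fun x => ⟨x.1, x.2.2⟩) (fun x y h => by
        apply Subtype.ext
        exact Subtype.mk.inj h)
    rw [card_ne, hn] at h1
    exact h1
  have ha44 : a = 44 := by omega
  -- `g` fixes everything
  have hall : ∀ W : Sylow 11 G, g • W = W := by
    have hF2 : Nat.card {W : Sylow 11 G // g • W = W} = Nat.card (Sylow 11 G) := by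
      rw [hF, hn, ha44]
    classical
    have := Fintype.ofFinite (Sylow 11 G)
    intro W'
    by_contra hW'
    have hlt : Nat.card {W : Sylow 11 G // g • W = W} < Nat.card (Sylow 11 G) := by
      rw [Nat.card_eq_fintype_card, Nat.card_eq_fintype_card]
      exact Fintype.card_subtype_lt hW'
    omega
  exact hm1 (smul_faithful hG 11 (by rw [hc]; norm_num) g hall)

omit hc [IsSimpleGroup G] [Finite G] [Group G] in
/-- The divisors of `720` congruent to `1` modulo `11`. -/
theorem dvd720 {n : ℕ} (h1 : n ∣ 720) (h2 : n % 11 = 1) : n = 1 ∨ n = 12 ∨ n = 45 ∨ n = 144 := by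
  have h3 : n ∈ Nat.divisors 720 := Nat.mem_divisors.mpr ⟨h1, by norm_num⟩
  have h4 : ∀ n ∈ Nat.divisors 720, n % 11 = 1 → n = 1 ∨ n = 12 ∨ n = 45 ∨ n = 144 := by
    decide +kernel
  exact h4 n h3 h2

/-- Sylow 11-subgroups of a simple group of order `7920`. -/
theorem main (P : Sylow 11 G) :
    Nat.card (Sylow 11 G) = 144 ∧
      Nat.card (normalizer ((P : Subgroup G) : Set G)) = 55 ∧
      centralizer ((P : Subgroup G) : Set G) = (P : Subgroup G) := by
  have hG := notComm hc
  have hP := card11 hc P
  obtain ⟨hn1, hn2, hn3, -⟩ := sylow_numerics hG 11 (by rw [hc]; norm_num) P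
  have hidx : (P : Subgroup G).index = 720 :=
    index_sylow_eq (p := 11) (k := 1) (m := 720) (by rw [hc]; norm_num) (by norm_num) P
  rw [hidx] at hn3
  set C := centralizer ((P : Subgroup G) : Set G) with hCdef
  set N := normalizer ((P : Subgroup G) : Set G) with hNdef
  have hCN : C ≤ N := centralizer_le_normalizer _
  have he := relIndex_dvd_ten hc P
  have hCe := card_mul_relIndex hCN
  have hS : Nat.card (Sylow 11 G) * Nat.card N = Nat.card G := Count.card_sylow_mul_card_normalizer P
  rw [hc] at hS
  have hele : C.relIndex N ≤ 10 := Nat.le_of_dvd (by norm_num) he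
  have hcases := dvd720 hn3 hn2
  have hn : Nat.card (Sylow 11 G) = 144 := by
    rcases hcases with h | h | h | h
    · exact absurd h hn1
    · exfalso
      have h1 := centralizer_le_of_twelve hc P h
      have h2 : Nat.card C ≤ 11 := by
        rw [← hP]
        exact Subgroup.card_le_of_le h1
      rw [h] at hS
      have h3 : Nat.card N = 660 := by omega
      rw [h3] at hCe
      nlinarith
    · exact absurd h (not_forty_five hc P)
    · exact h
  refine ⟨hn, ?_, ?_⟩
  · rw [hn] at hS
    show Nat.card N = 55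
    omega
  · have hNc : Nat.card N = 55 := by
      rw [hn] at hS
      omega
    have hab : IsMulCommutative (P : Subgroup G) := by
      have := isCyclic_of_prime_card (p := 11) (α := (P : Subgroup G)) hP
      exact IsCyclic.isMulCommutative
    have hPC : (P : Subgroup G) ≤ C := Subgroup.le_centralizer _
    have h11 : 11 ∣ Nat.card C := by
      rw [← hP]
      exact Subgroup.card_dvd_of_le hPC
    have hne : C.relIndex N ≠ 1 := by
      intro h
      exact normalizer_not_le_centralizer hG 11 (by rw [hc]; norm_num) P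
        (Subgroup.relIndex_eq_one.mp h)
    rw [hNc] at hCe
    have hcC : Nat.card C = 11 := by
      obtain ⟨c, hc'⟩ := h11
      rw [hc'] at hCe
      have h5 : c * C.relIndex N = 5 := by nlinarith
      have h6 : c ∣ 5 := ⟨_, h5.symm⟩
      have h7 : c = 1 ∨ c = 5 := (Nat.dvd_prime (by norm_num)).mp h6
      rcases h7 with rfl | rfl
      · omega
      · exfalso
        apply hne
        omega
    exact (Subgroup.eq_of_le_of_card_ge hPC (by rw [hcC, hP])).symm

end Cfsg.Agent.Lib.M11U.Syl11
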