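import Cfsg.Agent.Lib.Ord7920.Syl3
import Cfsg.Agent.Lib.M11U.Syl11
import Cfsg.Agent.Lib.M11U.Rank3
import Cfsg.Agent.Lib.M11U.Orbit3
import Cfsg.Agent.Lib.M11U.Duads
import Cfsg.Agent.Lib.M11U.NormalForm

/-!
# Simple groups of order 7920 are isomorphic to the concrete group `K`

The Sylow 3-subgroups are the points of a rank 3 graph, which is the triangular graph `T(11)`.
The group acts on the 11 points sharply 4-transitively.
-/

set_option autoImplicit false
set_option linter.unusedSectionVars false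
set_option linter.style.haveILetI false

namespace Cfsg.Agent.Lib.M11U.Assemble

open MulAction Subgroup
open Cfsg Cfsg.Agent.Lib.Ord7920.Data Cfsg.Agent.Lib.M11U.NormalForm
open Cfsg.Agent.Lib.M11U.Duads Cfsg.Agent.Lib.M11U.Orbit3

universe u

variable {G : Type u} [Group G] [Fintype G] [IsSimpleGroup G] [Fintype (IrrCharacter G)]

/-- Sylow 3-subgroups of a simple group of order 7920 are trivial-intersection subgroups. -/
theorem ti (D : Chars G) (hN : Nat.card G = 7920) {Q Q' : Sylow 3 G} (hne : Q ≠ Q') {x : G}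
    (hx : x ∈ Q) (hx' : x ∈ Q') : x = 1 := by
  classical
  haveI := Syl11.fact3
  haveI := Syl11.fact2
  by_contra hx1
  have hcT : ∀ Q : Sylow 3 G, Nat.card (Q : Subgroup G) = 9 := fun Q => Syl11.card3 hN Q
  have hdvd : orderOf x ∣ 9 := by
    have h1 := orderOf_dvd_natCard (⟨x, hx⟩ : (Q : Subgroup G))
    rwa [Subgroup.orderOf_mk, hcT] at h1
  have h3 : 3 ∣ orderOf x := by
    have h2 : orderOf x ≠ 1 := fun h => hx1 (orderOf_eq_one_iff.1 h)
    have h4 : orderOf x ∈ Nat.divisors 9 := Nat.mem_divisors.2 ⟨hdvd, by norm_num⟩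
    have h5 : Nat.divisors 9 = {1, 3, 9} := by decide
    rw [h5] at h4
    simp only [Finset.mem_insert, Finset.mem_singleton] at h4
    rcases h4 with h | h | h
    · exact absurd h h2
    · rw [h]
    · rw [h]
      norm_num
  set y := x ^ (orderOf x / 3) with hy
  have hy3 : orderOf y = 3 := orderOf_pow_orderOf_div (orderOf_pos x).ne' h3
  have hyQ : y ∈ (Q : Subgroup G) := (Q : Subgroup G).pow_mem hx _
  have hyQ' : y ∈ (Q' : Subgroup G) := (Q' : Subgroup G).pow_mem hx' _
  have hC := Cfsg.Agent.Lib.Ord7920.Three.card_centralizer_three D hN (hcT Q) hyQ hy3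
  have hcomm : ∀ (R : Sylow 3 G), y ∈ (R : Subgroup G) → (R : Subgroup G) ≤
      Subgroup.centralizer ({y} : Set G) := by
    intro R hR a ha
    have hcommT : IsMulCommutative (R : Subgroup G) :=
      IsPGroup.isMulCommutative_of_card_eq_prime_sq (p := 3) (by rw [hcT]; norm_num)
    rw [Subgroup.mem_centralizer_singleton_iff]
    exact congrArg Subtype.val (hcommT.is_comm.comm ⟨a, ha⟩ ⟨y, hR⟩)
  apply hne
  -- index two
  have hle : (Q' : Subgroup G) ≤ (Q : Subgroup G) := by
    intro a ha
    have hidx : ((Q : Subgroup G).subgroupOf (Subgroup.centralizer ({y} : Set G))).index = 2 := by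
      have h1 := Subgroup.card_mul_index ((Q : Subgroup G).subgroupOf (Subgroup.centralizer ({y} : Set G)))
      rw [hC, Nat.card_congr (Subgroup.subgroupOfEquivOfLe (hcomm Q hyQ)).toEquiv, hcT] at h1
      omega
    have hsq := Subgroup.mul_self_mem_of_index_two hidx ⟨a, hcomm Q' hyQ' ha⟩
    rw [Subgroup.mem_subgroupOf] at hsq
    have h9 : a ^ 9 = 1 := by
      have h1 := orderOf_dvd_natCard (⟨a, ha⟩ : (Q' : Subgroup G))
      rw [Subgroup.orderOf_mk, hcT] at h1
      exact orderOf_dvd_iff_pow_eq_one.1 h1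
    have h10 : a = (a * a) ^ 5 := by
      calc a = a ^ 9 * a := by rw [h9, one_mul]
        _ = a ^ 10 := (pow_succ a 9).symm
        _ = (a * a) ^ 5 := by rw [← pow_two, ← pow_mul]
    rw [h10]
    exact (Q : Subgroup G).pow_mem hsq 5
  have heq : (Q' : Subgroup G) = Q :=
    Subgroup.eq_of_le_of_card_ge hle (by rw [hcT, hcT])
  exact (Sylow.ext heq).symm

/-- An element of 3-power order normalising a Sylow 3-subgroup lies in it. -/
theorem mem_of_normalizes {x : G} (hx : x ^ 9 = 1) {Q : Sylow 3 G} (h : x • Q = Q) :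
    x ∈ (Q : Subgroup G) := by
  haveI := Syl11.fact3
  have hp : IsPGroup 3 (Subgroup.zpowers x) := by
    have h1 : orderOf x ∣ 3 ^ 2 := orderOf_dvd_of_pow_eq_one (by norm_num; exact hx)
    obtain ⟨k, -, hk⟩ := (Nat.dvd_prime_pow Nat.prime_three).1 h1
    exact IsPGroup.of_card (n := k) (by rw [Nat.card_zpowers, hk])
  have h1 := hp.inf_normalizer_sylow Q
  have h2 : x ∈ Subgroup.zpowers x ⊓ normalizer (Q : Set G) :=
    ⟨Subgroup.mem_zpowers x, Sylow.smul_eq_iff_mem_normalizer.1 h⟩
  rw [h1] at h2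
  exact h2.2

section Free

variable [Fintype (Sylow 3 G)] {Adj : Sylow 3 G → Sylow 3 G → Prop}
  {dd : Sylow 3 G → Finset (Fin 11)} {π : G →* Equiv.Perm (Fin 11)}

/-- If `g` fixes the two points of a duad, it normalises the Sylow subgroup. -/
theorem smul_eq_of_fix (hL : Label Adj dd)
    (hπ : ∀ (g : G) (Q : Sylow 3 G) (a : Fin 11), a ∈ dd Q ↔ π g a ∈ dd (g • Q))
    {g : G} {Q : Sylow 3 G} (hfix : ∀ a ∈ dd Q, π g a = a) : g • Q = Q := by
  apply hL.inj
  symm
  apply Finset.eq_of_subset_of_card_le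
  · intro a ha
    have := (hπ g Q a).1 ha
    rwa [hfix a ha] at this
  · rw [hL.card, hL.card]

/-- Elements of a Sylow subgroup fix the two points of its duad. -/
theorem fix_of_mem (D : Chars G) (hN : Nat.card G = 7920) (hL : Label Adj dd)
    (hπ : ∀ (g : G) (Q : Sylow 3 G) (a : Fin 11), a ∈ dd Q ↔ π g a ∈ dd (g • Q))
    {h : G} {Q : Sylow 3 G} (hh : h ∈ (Q : Subgroup G)) {a : Fin 11} (ha : a ∈ dd Q) :
    π h a = a := by
  classical
  haveI := Syl11.fact3
  have hfixQ : h • Q = Q := Sylow.smul_eq_iff_mem_normalizer.2 (Subgroup.le_normalizer hh)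
  have h9 : h ^ 9 = 1 := by
    have h1 := orderOf_dvd_natCard (⟨h, hh⟩ : (Q : Subgroup G))
    rw [Subgroup.orderOf_mk, Syl11.card3 hN Q] at h1
    exact orderOf_dvd_iff_pow_eq_one.1 h1
  have hmem : ∀ b ∈ dd Q, π h b ∈ dd Q := by
    intro b hb
    have := (hπ h Q b).1 hb
    rwa [hfixQ] at this
  have hpow : ∀ n : ℕ, ∀ b ∈ dd Q, (π h ^ n) b ∈ dd Q := by
    intro n
    induction n with
    | zero => intro b hb; simpa using hb
    | succ n ih =>
      intro b hb
      rw [pow_succ', Equiv.Perm.mul_apply]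
      exact hmem _ (ih b hb)
  obtain ⟨c, hc, hQ⟩ := exists_pair (hL.card Q) ha
  by_contra hne
  have h1 : π h a = c := by
    have := hmem a ha
    rw [hQ] at this
    simp only [Finset.mem_insert, Finset.mem_singleton] at this
    rcases this with h' | h'
    · exact absurd h' hne
    · exact h'
  have h2 : π h c = a := by
    have hcm : c ∈ dd Q := by rw [hQ]; simp
    have := hmem c hcm
    rw [hQ] at this
    simp only [Finset.mem_insert, Finset.mem_singleton] at this
    rcases this with h' | h'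
    · exact h'
    · exfalso
      have h3 := (π h).injective (h1.trans h'.symm)
      exact hc h3.symm
  have h3 : (π h ^ 9) a = a := by
    rw [← map_pow, h9, map_one]
    rfl
  have h4 : (π h ^ 9) a = c := by
    have e : π h ^ 9 = π h * (π h * (π h * (π h * (π h * (π h * (π h * (π h * π h))))))) := by
      simp only [pow_succ, pow_zero, one_mul, mul_assoc]
    rw [e]
    simp only [Equiv.Perm.mul_apply, h1, h2]
  exact hc (h4.symm.trans h3)

/-- Sylow subgroups act freely outside their duads. -/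
theorem free_of_mem (D : Chars G) (hN : Nat.card G = 7920) (hL : Label Adj dd)
    (hπ : ∀ (g : G) (Q : Sylow 3 G) (a : Fin 11), a ∈ dd Q ↔ π g a ∈ dd (g • Q))
    {h : G} {Q : Sylow 3 G} (hh : h ∈ (Q : Subgroup G)) {e : Fin 11} (he : e ∉ dd Q)
    (hfix : π h e = e) : h = 1 := by
  classical
  haveI := Syl11.fact3
  have h9 : h ^ 9 = 1 := by
    have h1 := orderOf_dvd_natCard (⟨h, hh⟩ : (Q : Subgroup G))
    rw [Subgroup.orderOf_mk, Syl11.card3 hN Q] at h1
    exact orderOf_dvd_iff_pow_eq_one.1 h1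
  obtain ⟨a, ha⟩ : (dd Q).Nonempty := by
    rw [← Finset.card_pos, hL.card]
    norm_num
  have hae : a ≠ e := fun h' => he (h' ▸ ha)
  obtain ⟨Q₂, hQ₂⟩ := hL.surj a e hae
  have hne : Q ≠ Q₂ := by
    rintro rfl
    apply he
    rw [hQ₂]
    simp
  have hfix₂ : h • Q₂ = Q₂ := by
    apply smul_eq_of_fix hL hπ
    intro b hb
    rw [hQ₂] at hb
    simp only [Finset.mem_insert, Finset.mem_singleton] at hb
    rcases hb with rfl | rfl
    · exact fix_of_mem D hN hL hπ hh ha
    · exact hfix
  exact ti D hN hne hh (mem_of_normalizes h9 hfix₂)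

/-- The key step: an involution fixes at most three points. -/
theorem involution_fix (D : Chars G) (hN : Nat.card G = 7920) (hL : Label Adj dd)
    (hπ : ∀ (g : G) (Q : Sylow 3 G) (a : Fin 11), a ∈ dd Q ↔ π g a ∈ dd (g • Q))
    (hinj : Function.Injective π) {s : G} (hs : orderOf s = 2) {a b c d : Fin 11}
    (hab : a ≠ b) (hc₁ : c ≠ a) (hc₂ : c ≠ b) (hd₁ : d ≠ a) (hd₂ : d ≠ b) (hcd : c ≠ d)
    (ha : π s a = a) (hb : π s b = b) (hc : π s c = c) (hd : π s d = d) : False := by
  classical
  haveI := Syl11.fact3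
  have hnc : ¬ IsMulCommutative G := Syl11.notComm hN
  obtain ⟨Q, hQ⟩ := hL.surj a b hab
  have hmemQ : ∀ e, e ∈ dd Q ↔ e = a ∨ e = b := by
    intro e
    rw [hQ]
    simp
  have hsQ : s • Q = Q := by
    apply smul_eq_of_fix hL hπ
    intro e he
    rcases (hmemQ e).1 he with rfl | rfl <;> assumption
  have hsN : s ∈ normalizer ((Q : Subgroup G) : Set G) := Sylow.smul_eq_iff_mem_normalizer.1 hsQ
  -- the nine other points
  let Ω := {e : Fin 11 // e ∉ dd Q}
  have hΩ : Nat.card Ω = 9 := by
    rw [Nat.card_eq_fintype_card, Fintype.card_subtype_compl, Fintype.card_fin]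
    have : Fintype.card {e // e ∈ dd Q} = 2 := by
      rw [Fintype.card_coe, hL.card]
    omega
  have hcΩ : c ∉ dd Q := by
    rw [hmemQ]
    tauto
  have hdΩ : d ∉ dd Q := by
    rw [hmemQ]
    tauto
  -- the action of `Q` on them
  have hstay : ∀ t ∈ (Q : Subgroup G), ∀ e, e ∉ dd Q → π t e ∉ dd Q := by
    intro t ht e he h1
    apply he
    have h2 := (hπ t Q e).2
    rw [Sylow.smul_eq_iff_mem_normalizer.2 (Subgroup.le_normalizer ht)] at h2
    exact h2 h1
  let f : ↥(Q : Subgroup G) → Ω := fun t => ⟨π t c, hstay t t.2 c hcΩ⟩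
  have hfinj : Function.Injective f := by
    intro t₁ t₂ h
    have h1 : π t₁ c = π t₂ c := congrArg Subtype.val h
    have h2 : (t₁⁻¹ * t₂ : (Q : Subgroup G)) = 1 := by
      apply Subtype.ext
      apply free_of_mem D hN hL hπ (t₁⁻¹ * t₂ : (Q : Subgroup G)).2 hcΩ
      simp only [Subgroup.coe_mul, Subgroup.coe_inv, map_mul, map_inv, Equiv.Perm.mul_apply]
      rw [← h1]
      simp
    exact (inv_mul_eq_one.1 h2)
  have hfbij : Function.Bijective f := hfinj.bijective_of_nat_card_le (by
    rw [hΩ, Syl11.card3 hN Q])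
  -- the centraliser
  let C : Subgroup ↥(Q : Subgroup G) := (Subgroup.centralizer ({s} : Set G)).subgroupOf (Q : Subgroup G)
  have hCd : Nat.card C ∣ 9 := by
    rw [← Syl11.card3 hN Q]
    exact Subgroup.card_subgroup_dvd_card C
  -- the fixed points
  let F := {e : Ω // π s e.1 = e.1}
  have hFC : Nat.card F = Nat.card C := by
    symm
    apply Nat.card_congr
    refine Equiv.ofBijective (fun t => ⟨f t.1, ?_⟩) ⟨?_, ?_⟩
    · show π s (π t.1 c) = π t.1 c
      have h1 : (s * (t.1 : G)) = (t.1 : G) * s := by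
        have h2 := t.2
        rw [Subgroup.mem_subgroupOf, Subgroup.mem_centralizer_singleton_iff] at h2
        exact h2.symm
      rw [← Equiv.Perm.mul_apply, ← map_mul, h1, map_mul, Equiv.Perm.mul_apply, hc]
    · intro t₁ t₂ h
      apply Subtype.ext
      apply hfinj
      exact congrArg Subtype.val h
    · intro e
      obtain ⟨t, ht⟩ := hfbij.2 e.1
      have hte : π t c = e.1.1 := congrArg Subtype.val ht
      have htC : t ∈ C := by
        rw [Subgroup.mem_subgroupOf, Subgroup.mem_centralizer_singleton_iff]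
        have hconj : s * (t : G) * s⁻¹ ∈ (Q : Subgroup G) :=
          (Subgroup.mem_normalizer_iff.1 hsN t).1 t.2
        have h1 : π (s * (t : G) * s⁻¹) c = π t c := by
          have hsc : π s⁻¹ c = c := by
            rw [map_inv, Equiv.Perm.inv_eq_iff_eq, hc]
          simp only [map_mul, Equiv.Perm.mul_apply, hsc]
          rw [hte, e.2]
        have h2 : (t : G)⁻¹ * (s * (t : G) * s⁻¹) = 1 := by
          apply free_of_mem D hN hL hπ ((Q : Subgroup G).mul_mem ((Q : Subgroup G).inv_mem t.2) hconj) hcΩ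
          simp only [map_mul, map_inv, Equiv.Perm.mul_apply] at h1 ⊢
          rw [h1]
          simp
        have h3 : s * (t : G) * s⁻¹ = t := (inv_mul_eq_one.1 h2).symm
        rw [mul_inv_eq_iff_eq_mul] at h3
        exact h3.symm
      exact ⟨⟨t, htC⟩, Subtype.ext ht⟩
  have hF2 : 2 ≤ Nat.card F := by
    have hne : (⟨⟨c, hcΩ⟩, hc⟩ : F) ≠ ⟨⟨d, hdΩ⟩, hd⟩ := by
      intro h
      exact hcd (congrArg (fun x : F => x.1.1) h)
    haveI : Nontrivial F := ⟨⟨_, _, hne⟩⟩
    exact Finite.one_lt_card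
  -- the number of fixed points on the eleven points
  letI : MulAction G (Fin 11) := MulAction.compHom (Fin 11) π
  have hsmul : ∀ (g : G) (e : Fin 11), g • e = π g e := fun _ _ => rfl
  have hfixcard : Nat.card (fixedBy (Fin 11) s) = 2 + Nat.card F := by
    have hsplit : Nat.card (fixedBy (Fin 11) s) =
        Nat.card {e : Fin 11 // e ∈ dd Q} + Nat.card F := by
      rw [← Nat.card_sum]
      apply Nat.card_congr
      refine ⟨fun e => if h : e.1 ∈ dd Q then Sum.inl ⟨e.1, h⟩ else Sum.inr ⟨⟨e.1, h⟩, e.2⟩,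
        fun e => match e with
          | Sum.inl x => ⟨x.1, ?_⟩
          | Sum.inr x => ⟨x.1.1, x.2⟩, ?_, ?_⟩
      · show π s x.1 = x.1
        rcases (hmemQ x.1).1 x.2 with h | h <;> rw [h] <;> assumption
      · intro e
        by_cases h : e.1 ∈ dd Q <;> simp [h]
      · intro e
        rcases e with x | x
        · simp [x.2]
        · simp [x.1.2]
    rw [hsplit, Nat.card_eq_fintype_card (α := {e : Fin 11 // e ∈ dd Q}), Fintype.card_coe, hL.card]
  have h4 := Cfsg.Agent.Lib.SmallSimple.Sign.four_dvd_card_sub_fixedBy (Ω := Fin 11) hnc s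
    (by rw [← hs]; exact pow_orderOf_eq_one s)
  rw [hfixcard, Nat.card_eq_fintype_card, Fintype.card_fin, hFC] at h4
  rw [hFC] at hF2
  have hcases : Nat.card C = 1 ∨ Nat.card C = 3 ∨ Nat.card C = 9 := by
    have h5 : Nat.card C ∈ Nat.divisors 9 := Nat.mem_divisors.2 ⟨hCd, by norm_num⟩
    have h6 : Nat.divisors 9 = {1, 3, 9} := by decide
    rw [h6] at h5
    simpa using h5
  have h9 : Nat.card C = 9 := by
    rcases hcases with h | h | h
    · omega
    · rw [h] at h4
      norm_num at h4
    · exact h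
  -- `s` fixes everything
  have hs1 : s ≠ 1 := by
    rintro rfl
    rw [orderOf_one] at hs
    omega
  have h10 : Nat.card F = 9 := hFC.trans h9
  have h11 : π s = 1 := by
    have h12 : ∀ e : Ω, π s e.1 = e.1 := by
      have hbij : Function.Surjective (Subtype.val : F → Ω) := by
        have hi : Function.Injective (Subtype.val : F → Ω) := Subtype.val_injective
        exact (hi.bijective_of_nat_card_le (by rw [hΩ, h10])).2
      intro e
      obtain ⟨x, rfl⟩ := hbij e
      exact x.2
    ext e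
    by_cases he : e ∈ dd Q
    · rcases (hmemQ e).1 he with h | h <;> rw [h] <;> simp [ha, hb]
    · have := h12 ⟨e, he⟩
      simp [this]
  exact hs1 (hinj (h11.trans (map_one π).symm))

/-- Non-trivial elements fix at most three points. -/
theorem free_range (D : Chars G) (hN : Nat.card G = 7920) (hL : Label Adj dd)
    (hπ : ∀ (g : G) (Q : Sylow 3 G) (a : Fin 11), a ∈ dd Q ↔ π g a ∈ dd (g • Q))
    (hinj : Function.Injective π) : Free π.range := by
  classical
  rintro _ ⟨g, rfl⟩ s hs hfix
  by_contra hne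
  have hg1 : g ≠ 1 := by
    rintro rfl
    exact hne (map_one π)
  -- four points
  obtain ⟨a, b, c, d, hab, hac, had, hbc, hbd, hcd, ha, hb, hc, hd⟩ :
      ∃ a b c d : Fin 11, a ≠ b ∧ a ≠ c ∧ a ≠ d ∧ b ≠ c ∧ b ≠ d ∧ c ≠ d ∧
        a ∈ s ∧ b ∈ s ∧ c ∈ s ∧ d ∈ s := by
    obtain ⟨a, ha, b, hb, hab⟩ := Finset.one_lt_card.1 (by omega : 1 < s.card)
    have h2 : 1 < ((s.erase a).erase b).card := by
      rw [Finset.card_erase_of_mem (Finset.mem_erase.2 ⟨hab.symm, hb⟩), Finset.card_erase_of_mem ha]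
      omega
    obtain ⟨c, hc, d, hd, hcd⟩ := Finset.one_lt_card.1 h2
    simp only [Finset.mem_erase] at hc hd
    exact ⟨a, b, c, d, hab, hc.2.1.symm, hd.2.1.symm, hc.1.symm, hd.1.symm, hcd, ha, hb, hc.2.2, hd.2.2⟩
  have hfa := hfix a ha
  have hfb := hfix b hb
  have hfc := hfix c hc
  have hfd := hfix d hd
  -- the order of `g`
  obtain ⟨Q, hQ⟩ := hL.surj a b hab
  have hgQ : g • Q = Q := by
    apply smul_eq_of_fix hL hπ
    intro e he
    rw [hQ] at he
    simp only [Finset.mem_insert, Finset.mem_singleton] at he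
    rcases he with rfl | rfl <;> assumption
  have hgN : g ∈ normalizer ((Q : Subgroup G) : Set G) := Sylow.smul_eq_iff_mem_normalizer.1 hgQ
  have h144 : Nat.card (normalizer ((Q : Subgroup G) : Set G)) = 144 :=
    Cfsg.Agent.Lib.Ord7920.Syl3.card_normalizer D hN (Syl11.card3 hN Q)
  have hod : orderOf g ∣ 144 := by
    have h1 := orderOf_dvd_natCard (⟨g, hgN⟩ : normalizer ((Q : Subgroup G) : Set G))
    rwa [Subgroup.orderOf_mk, h144] at h1
  have hon1 : orderOf g ≠ 1 := fun h => hg1 (orderOf_eq_one_iff.1 h)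
  obtain ⟨p, hp, hpd⟩ := Nat.exists_prime_and_dvd hon1
  have hp23 : p = 2 ∨ p = 3 := by
    have h1 : p ∣ 2 ^ 4 * 3 ^ 2 := by
      have := hpd.trans hod
      norm_num at this ⊢
      exact this
    rcases (Nat.Prime.dvd_mul hp).1 h1 with h | h
    · exact Or.inl ((Nat.prime_dvd_prime_iff_eq hp Nat.prime_two).1 (hp.dvd_of_dvd_pow h))
    · exact Or.inr ((Nat.prime_dvd_prime_iff_eq hp Nat.prime_three).1 (hp.dvd_of_dvd_pow h))
  set h := g ^ (orderOf g / p) with hh
  have hhp : orderOf h = p := orderOf_pow_orderOf_div (orderOf_pos g).ne' hpd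
  have hfixh : ∀ e, π g e = e → π h e = e := by
    intro e he
    rw [hh, map_pow]
    have : ∀ n : ℕ, (π g ^ n) e = e := by
      intro n
      induction n with
      | zero => rfl
      | succ n ih => rw [pow_succ', Equiv.Perm.mul_apply, ih, he]
    exact this _
  rcases hp23 with rfl | rfl
  · exact involution_fix D hN hL hπ hinj hhp hab hac.symm hbc.symm had.symm hbd.symm hcd
      (hfixh a hfa) (hfixh b hfb) (hfixh c hfc) (hfixh d hfd)
  · obtain ⟨Q₂, hQ₂⟩ := hL.surj a c hac
    have hne' : Q ≠ Q₂ := by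
      rintro rfl
      have : b ∈ dd Q := by rw [hQ]; simp
      rw [hQ₂] at this
      simp only [Finset.mem_insert, Finset.mem_singleton] at this
      rcases this with h1 | h1
      · exact hab h1.symm
      · exact hbc h1
    have hh3 : h ^ 9 = 1 := by
      have : orderOf h ∣ 9 := by rw [hhp]; norm_num
      exact orderOf_dvd_iff_pow_eq_one.1 this
    have hQ1 : h • Q = Q := by
      apply smul_eq_of_fix hL hπ
      intro e he
      rw [hQ] at he
      simp only [Finset.mem_insert, Finset.mem_singleton] at he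
      rcases he with rfl | rfl
      · exact hfixh _ hfa
      · exact hfixh _ hfb
    have hQ2 : h • Q₂ = Q₂ := by
      apply smul_eq_of_fix hL hπ
      intro e he
      rw [hQ₂] at he
      simp only [Finset.mem_insert, Finset.mem_singleton] at he
      rcases he with rfl | rfl
      · exact hfixh _ hfa
      · exact hfixh _ hfc
    have h1 := ti D hN hne' (mem_of_normalizes hh3 hQ1) (mem_of_normalizes hh3 hQ2)
    rw [h1, orderOf_one] at hhp
    omega

end Free

/-- Simple groups of order 7920 are isomorphic to the concrete group `K`. -/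
theorem nonempty_mulEquiv_K (hN : Nat.card G = 7920) : Nonempty (G ≃* K) := by
  classical
  haveI := Syl11.fact3
  obtain ⟨D⟩ := Cfsg.Agent.Lib.Ord7920.Data.exists_chars hN
  have hN144 : ∀ Q : Sylow 3 G, Nat.card (normalizer ((Q : Subgroup G) : Set G)) = 144 := fun Q =>
    Cfsg.Agent.Lib.Ord7920.Syl3.card_normalizer D hN (Syl11.card3 hN Q)
  letI : Fintype (Sylow 3 G) := Fintype.ofFinite _
  obtain ⟨Q₀⟩ : Nonempty (Sylow 3 G) := inferInstance
  have hXn : Nat.card (Sylow 3 G) = 55 := by
    have h1 := Cfsg.Agent.Lib.SmallSimple.Count.card_sylow_mul_card_normalizer Q₀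
    rw [hN144, hN] at h1
    omega
  have hX : Fintype.card (Sylow 3 G) = 55 := by rwa [← Nat.card_eq_fintype_card]
  have h5 : ∀ g : G, 5 ∣ orderOf g → Nat.card (fixedBy (Sylow 3 G) g) = 0 := by
    intro g hg
    rw [Nat.card_eq_zero]
    left
    rw [isEmpty_subtype]
    intro Q hQ
    have h1 : g ∈ normalizer ((Q : Subgroup G) : Set G) := Sylow.smul_eq_iff_mem_normalizer.1 hQ
    have h2 := orderOf_dvd_natCard (⟨g, h1⟩ : normalizer ((Q : Subgroup G) : Set G))
    rw [Subgroup.orderOf_mk, hN144] at h2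
    have h3 := hg.trans h2
    norm_num at h3
  have horb := Cfsg.Agent.Lib.M11U.Rank3.card_orbits_prod hN hXn h5
  have hsz : ∀ a b : Sylow 3 G, a ≠ b → sz G a b ∈ ({1, 2, 4, 8, 16} : Finset ℕ) := by
    intro a b hab
    have hle : stabilizer G (a, b) ≤ normalizer ((a : Subgroup G) : Set G) := by
      intro g hg
      exact Sylow.smul_eq_iff_mem_normalizer.1 (Prod.ext_iff.1 hg).1
    have hd : sz G a b ∣ 144 := by
      rw [← hN144 a]
      exact Subgroup.card_dvd_of_le hle
    have h3 : ¬ 3 ∣ sz G a b := by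
      intro h
      obtain ⟨x, hx⟩ := exists_prime_orderOf_dvd_card' (G := stabilizer G (a, b)) 3 h
      have hx' : orderOf (x : G) = 3 := by rw [Subgroup.orderOf_coe, hx]
      have h9 : (x : G) ^ 9 = 1 := by
        have : orderOf (x : G) ∣ 9 := by rw [hx']; norm_num
        exact orderOf_dvd_iff_pow_eq_one.1 this
      have h1 := ti D hN hab (mem_of_normalizes h9 (Prod.ext_iff.1 x.2).1)
        (mem_of_normalizes h9 (Prod.ext_iff.1 x.2).2)
      rw [h1, orderOf_one] at hx'
      omega
    have hmem : sz G a b ∈ Nat.divisors 144 := Nat.mem_divisors.2 ⟨hd, by norm_num⟩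
    have hdiv : Nat.divisors 144 = {1, 2, 3, 4, 6, 8, 9, 12, 16, 18, 24, 36, 48, 72, 144} := by
      decide +kernel
    rw [hdiv] at hmem
    simp only [Finset.mem_insert, Finset.mem_singleton] at hmem ⊢
    rcases hmem with h | h | h | h | h | h | h | h | h | h | h | h | h | h | h <;> rw [h] at h3 ⊢ <;>
      first | (norm_num at h3; done) | simp
  obtain ⟨h18, h9, h4⟩ := srg_of_orbit hN hX horb hsz
  obtain ⟨dd, hL⟩ := exists_label hX (Adj G) (fun a h => h.1 rfl) (fun a b h => adj_symm h) h18 h9 h4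
  obtain ⟨π, hπ⟩ := exists_hom (G := G) hL (fun g a b h => (adj_smul g).2 h)
  -- faithfulness
  have hinj : Function.Injective π := by
    have hker := IsSimpleGroup.eq_bot_or_eq_top_of_normal π.ker (MonoidHom.normal_ker π)
    rcases hker with h | h
    · exact (MonoidHom.ker_eq_bot_iff π).1 h
    · exfalso
      have htop : ∀ g : G, g ∈ normalizer ((Q₀ : Subgroup G) : Set G) := by
        intro g
        have h1 : π g = 1 := by
          have : g ∈ π.ker := by rw [h]; trivial
          exact this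
        have h2 : g • Q₀ = Q₀ := smul_eq_of_fix hL hπ (fun a _ => by rw [h1]; rfl)
        exact Sylow.smul_eq_iff_mem_normalizer.1 h2
      have h2 : normalizer ((Q₀ : Subgroup G) : Set G) = ⊤ := (Subgroup.eq_top_iff' _).2 htop
      have h3 := hN144 Q₀
      rw [h2, Subgroup.card_top, hN] at h3
      omega
  have hfree := free_range D hN hL hπ hinj
  let e : G ≃* π.range := MonoidHom.ofInjective hinj
  have hcard : Nat.card π.range = 7920 := (Nat.card_congr e.toEquiv).symm.trans hN
  haveI hsimple : IsSimpleGroup π.range := e.symm.isSimpleGroup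
  obtain ⟨e₂⟩ := nonempty_mulEquiv hcard hfree
  exact ⟨e.trans e₂⟩

end Cfsg.Agent.Lib.M11U.Assemble
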