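import Mathlib

/-!
# Feasible parameters of strongly regular graphs on 55 vertices of valency 18

Integrality of the multiplicities of the eigenvalues: the only feasible parameters are
`(λ, μ) = (9, 4)`.
-/

set_option autoImplicit false

namespace Cfsg.Agent.Lib.M11U.SRGParam

open Matrix

variable {X : Type*} [Fintype X] [DecidableEq X]

/-- An idempotent real matrix has natural number trace. -/
theorem exists_trace_eq_nat (E : Matrix X X ℝ) (hE : E * E = E) :
    ∃ m : ℕ, m ≤ Fintype.card X ∧ Matrix.trace E = m := by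
  let f := Matrix.toLin' E
  have hf : IsIdempotentElem f := by
    show f * f = f
    rw [Module.End.mul_eq_comp, ← Matrix.toLin'_mul, hE]
  have h1 := LinearMap.IsProj.trace (LinearMap.IsIdempotentElem.isProj_range f hf)
  rw [Matrix.trace_toLin'_eq] at h1
  refine ⟨Module.finrank ℝ (LinearMap.range f), ?_, h1⟩
  have h2 := Submodule.finrank_le (LinearMap.range f)
  simpa using h2

/-- The arithmetic at the end. -/
theorem arith_end : ∀ μ ∈ Finset.range 9, ∀ m ∈ Finset.range 56,
    (27 - (m : ℤ)) ^ 2 * ((17 - 3 * (μ : ℤ)) ^ 2 + 72 - 4 * μ) = (477 - 81 * (μ : ℤ)) ^ 2 → μ = 4 := by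
  decide +kernel

variable (Adj : X → X → Prop) [DecidableRel Adj]

/-- The adjacency matrix. -/
def adjM : Matrix X X ℝ := Matrix.of fun u v => if Adj u v then 1 else 0

/-- The all-one matrix. -/
def oneM (X : Type*) : Matrix X X ℝ := Matrix.of fun _ _ => 1

/-- Algebra of the span of `1, A, J`. -/
theorem T_sq {R : Type*} [Field R] {S : Type*} [Ring S] [Algebra R S] (A J : S) (k v la mu s c w : R)
    (hAA : A * A = k • (1 : S) + la • A + mu • (J - 1 - A))
    (hAJ : A * J = k • J) (hJA : J * A = k • J) (hJJ : J * J = v • J)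
    (h1 : s ^ 2 + (k - mu) = - s * w)
    (h2 : - 2 * s + (la - mu) = w)
    (h3 : 2 * s * c + mu - 2 * k * c + v * c ^ 2 = - w * c) :
    ((-s) • (1 : S) + A + (-c) • J) * ((-s) • (1 : S) + A + (-c) • J) =
      w • ((-s) • (1 : S) + A + (-c) • J) := by
  have e : ((-s) • (1 : S) + A + (-c) • J) * ((-s) • (1 : S) + A + (-c) • J) =
      (s ^ 2) • (1 : S) + (-2 * s) • A + (2 * s * c) • J + A * A + (-c) • (A * J) + (-c) • (J * A)
        + (c ^ 2) • (J * J) := by
    simp only [add_mul, mul_add, smul_mul_assoc, mul_smul_comm, one_mul, mul_one]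
    module
  rw [e, hAA, hAJ, hJA, hJJ]
  simp only [smul_smul]
  have e1 : s ^ 2 + (k - mu) = -s * w := h1
  have e2 : -2 * s + (la - mu) = w := h2
  have e3 : 2 * s * c + mu - 2 * k * c + v * c ^ 2 = -w * c := h3
  have : (s ^ 2) • (1 : S) + (-2 * s) • A + (2 * s * c) • J +
      (k • (1 : S) + la • A + mu • (J - 1 - A)) + (-c * k) • J + (-c * k) • J + (c ^ 2 * v) • J =
      (s ^ 2 + (k - mu)) • (1 : S) + (-2 * s + (la - mu)) • A +
        (2 * s * c + mu - 2 * k * c + v * c ^ 2) • J := by
    module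
  rw [this, e1, e2, e3]
  module

variable {Adj}

/-- The feasibility condition. -/
theorem params_of_srg (hX : Fintype.card X = 55) (hirr : ∀ u, ¬ Adj u u)
    (hsymm : ∀ u v, Adj u v → Adj v u)
    (hdeg : ∀ u, (Finset.univ.filter fun v => Adj u v).card = 18) {la mu : ℕ}
    (hla : ∀ u v, Adj u v → (Finset.univ.filter fun w => Adj u w ∧ Adj v w).card = la)
    (hmu : ∀ u v, u ≠ v → ¬ Adj u v → (Finset.univ.filter fun w => Adj u w ∧ Adj v w).card = mu) :
    la = 9 ∧ mu = 4 := by
  have hne : Nonempty X := by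
    rw [← Fintype.card_pos_iff, hX]
    norm_num
  set A := adjM Adj with hA
  set J := oneM X with hJ
  have hAent : ∀ u v, A u v = if Adj u v then 1 else 0 := fun _ _ => rfl
  have hJent : ∀ u v, J u v = 1 := fun _ _ => rfl
  -- the sums
  have hsumR : ∀ u, ∑ w, A u w = 18 := by
    intro u
    simp only [hAent]
    rw [Finset.sum_boole, hdeg]
    norm_num
  have hsumL : ∀ v, ∑ w, A w v = 18 := by
    intro v
    rw [← hsumR v]
    refine Finset.sum_congr rfl fun w _ => ?_
    simp only [hAent]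
    congr 1
    exact propext ⟨hsymm _ _, hsymm _ _⟩
  have hAJ : A * J = (18 : ℝ) • J := by
    ext u v
    simp only [Matrix.mul_apply, hJent, mul_one, hsumR, Matrix.smul_apply, smul_eq_mul]
  have hJA : J * A = (18 : ℝ) • J := by
    ext u v
    simp only [Matrix.mul_apply, hJent, one_mul, hsumL, Matrix.smul_apply, smul_eq_mul, mul_one]
  have hJJ : J * J = (55 : ℝ) • J := by
    ext u v
    simp only [Matrix.mul_apply, hJent, mul_one, Matrix.smul_apply, smul_eq_mul, Finset.sum_const,
      Finset.card_univ, hX]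
    norm_num
  have hAA : A * A = (18 : ℝ) • (1 : Matrix X X ℝ) + (la : ℝ) • A + (mu : ℝ) • (J - 1 - A) := by
    ext u v
    have hent : (A * A) u v = ((Finset.univ.filter fun w => Adj u w ∧ Adj v w).card : ℝ) := by
      rw [Matrix.mul_apply, Finset.card_filter]
      push_cast
      refine Finset.sum_congr rfl fun w _ => ?_
      simp only [hAent]
      have h3 : Adj w v ↔ Adj v w := ⟨hsymm _ _, hsymm _ _⟩
      by_cases h1 : Adj u w <;> by_cases h2 : Adj v w <;> simp [h1, h2, h3]
    rw [hent]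
    simp only [Matrix.add_apply, Matrix.smul_apply, Matrix.sub_apply, smul_eq_mul, hJent, hAent]
    by_cases huv : u = v
    · subst huv
      have h1 : (Finset.univ.filter fun w => Adj u w ∧ Adj u w).card = 18 := by
        simp only [and_self]
        exact hdeg u
      rw [h1]
      simp [hirr]
    · rw [Matrix.one_apply_ne huv]
      by_cases h : Adj u v
      · rw [hla u v h]
        simp [h]
      · rw [hmu u v huv h]
        simp [h]
  -- double counting
  have hcount : (18 : ℝ) * 18 = 18 + 18 * la + 36 * mu := by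
    have h1 : A * A * J = ((18 : ℝ) * 18) • J := by
      rw [Matrix.mul_assoc, hAJ, Matrix.mul_smul, hAJ, smul_smul]
    have h2 : A * A * J = (18 + 18 * la + 36 * mu : ℝ) • J := by
      rw [hAA]
      simp only [Matrix.add_mul, Matrix.smul_mul, Matrix.sub_mul, Matrix.one_mul, hAJ, hJJ]
      module
    have h3 := h1.symm.trans h2
    obtain ⟨u⟩ := hne
    have h4 := congrFun (congrFun h3 u) u
    simp only [Matrix.smul_apply, smul_eq_mul, hJent, mul_one] at h4
    exact h4
  have hcountN : 18 * 18 = 18 + 18 * la + 36 * mu := by exact_mod_cast hcount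
  have hmu8 : mu ≤ 8 := by omega
  -- the square root
  have hLr : (la : ℝ) - mu = 17 - 3 * mu := by linarith
  set D : ℝ := (17 - 3 * (mu : ℝ)) ^ 2 + 72 - 4 * mu with hD
  have hmuR : (mu : ℝ) ≤ 8 := by exact_mod_cast hmu8
  have hDpos : 0 < D := by
    rw [hD]
    nlinarith [sq_nonneg (17 - 3 * (mu : ℝ))]
  set w := Real.sqrt D with hw
  have hw2 : w ^ 2 = D := Real.sq_sqrt hDpos.le
  have hwpos : 0 < w := Real.sqrt_pos.2 hDpos
  set s : ℝ := ((17 - 3 * (mu : ℝ)) - w) / 2 with hs
  set c : ℝ := (18 - s) / 55 with hc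
  have hT := T_sq (R := ℝ) A J 18 55 (la : ℝ) (mu : ℝ) s c w hAA hAJ hJA hJJ
    (by rw [hs]; linear_combination (-1 / 4) * hw2)
    (by rw [hLr, hs]; ring)
    (by
      rw [hc, hs]
      linear_combination (1 / 220) * hw2)
  set T : Matrix X X ℝ := (-s) • (1 : Matrix X X ℝ) + A + (-c) • J with hTdef
  -- the idempotent
  have hE : (w⁻¹ • T) * (w⁻¹ • T) = w⁻¹ • T := by
    rw [Matrix.smul_mul, Matrix.mul_smul, hT, smul_smul, smul_smul]
    congr 1
    field_simp
  obtain ⟨m, hm, htr⟩ := exists_trace_eq_nat _ hE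
  have htrA : Matrix.trace A = 0 := by
    simp [Matrix.trace, hAent, hirr]
  have htrJ : Matrix.trace J = 55 := by
    simp [Matrix.trace, hJent, hX]
  have htr1 : Matrix.trace (1 : Matrix X X ℝ) = 55 := by
    simp [Matrix.trace_one, hX]
  have htrT : Matrix.trace T = -s * 55 + -c * 55 := by
    rw [hTdef, Matrix.trace_add, Matrix.trace_add, Matrix.trace_smul, Matrix.trace_smul, htrA, htrJ,
      htr1]
    simp
  rw [Matrix.trace_smul, htrT, smul_eq_mul] at htr
  have hmw : (27 - (m : ℝ)) * w = 477 - 81 * mu := by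
    have h1 : -s * 55 + -c * 55 = (m : ℝ) * w := by
      rw [← htr]
      field_simp
    rw [hc] at h1
    rw [hs] at h1
    linear_combination h1
  have hsq : (27 - (m : ℝ)) ^ 2 * D = (477 - 81 * (mu : ℝ)) ^ 2 := by
    rw [← hw2, ← hmw]
    ring
  have hsqZ : (27 - (m : ℤ)) ^ 2 * ((17 - 3 * (mu : ℤ)) ^ 2 + 72 - 4 * mu) =
      (477 - 81 * (mu : ℤ)) ^ 2 := by
    have : ((27 - (m : ℤ)) ^ 2 * ((17 - 3 * (mu : ℤ)) ^ 2 + 72 - 4 * mu) : ℝ) =
        ((477 - 81 * (mu : ℤ)) ^ 2 : ℤ) := by
      push_cast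
      rw [← hD]
      exact hsq
    exact_mod_cast this
  have hmu4 := arith_end mu (Finset.mem_range.2 (by omega)) m
    (Finset.mem_range.2 (by rw [hX] at hm; omega)) hsqZ
  subst hmu4
  constructor <;> omega

end Cfsg.Agent.Lib.M11U.SRGParam
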